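import Mathlib
import Cfsg.Prelude.Def_LocalEven
import Cfsg.Agent.Lib.Cores
import Cfsg.Agent.PLocal.ZJ
import Cfsg.Agent.Transfer.FusionBasic

set_option autoImplicit false

/-!
# Glauberman's ZJ theorem for strongly closed subgroups

`D` a subgroup of the Sylow `p`-subgroup `S` of `G`, strongly closed in `S` with respect to `G`, `p` odd.
`inf_sInf_maxAb_normal_of_stronglyClosed`: if `B` is a normal `p`-subgroup of `G` on which `G` acts
`p`-stably, then `B ∩ Z` is normal in `G`, `Z` the intersection of the (elementary) abelian subgroups of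
largest order of `D`.  `sInf_maxAb_normal`: if `C_G(O_p(G)) ≤ O_p(G)` then `Z` is normal in `G`.
-/

namespace Cfsg.Agent.H280.StrongZJ

open Subgroup
open Cfsg.Agent.PLocal Cfsg.Agent.PLocal.ZJ
open Cfsg.Agent.Transfer.FusionBasic
open scoped commutatorElement

variable {G : Type*} [Group G]

theorem le_normalizer_of_stronglyClosed [Finite G] {D S : Subgroup G}
    (hD : Cfsg.IsStronglyClosed D S) : S ≤ normalizer (D : Set G) := by
  intro s hs
  exact mem_normalizer_of_conj_mem fun a ha =>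
    hD.2 a ha s (mul_mem (mul_mem hs (hD.1 ha)) (inv_mem hs))

/-- A strongly closed subgroup meets the normal subgroups contained in `S` in normal subgroups. -/
theorem inf_normal_of_stronglyClosed {D S B : Subgroup G} (hD : Cfsg.IsStronglyClosed D S)
    (hB : B.Normal) (hBS : B ≤ S) : (B ⊓ D).Normal := by
  refine ⟨fun x hx g => ?_⟩
  have h1 := hB.conj_mem x hx.1 g
  exact ⟨h1, hD.2 x hx.2 g (hBS h1)⟩

/-- **Glauberman's ZJ theorem for strongly closed subgroups**, main step. -/
theorem inf_sInf_maxAb_normal_of_stronglyClosed [Finite G] {p : ℕ} [Fact p.Prime] (hp : p ≠ 2) {e : ℕ}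
    (he : e = 0 ∨ Odd e) (S : Sylow p G) (D : Subgroup G)
    (hD : Cfsg.IsStronglyClosed D (S : Subgroup G)) (B : Subgroup G) (hBn : B.Normal) (hB : IsPGroup p B)
    (hst : ∀ (P : Subgroup G) [P.Normal], P ≤ B → StableFor p (S : Subgroup G) P) :
    (B ⊓ sInf (maxAb e D)).Normal := by
  induction hn : Nat.card B using Nat.strong_induction_on generalizing B with
  | _ n ih =>
  subst hn
  set Z : Subgroup G := sInf (maxAb e D) with hZdef
  have hSp : IsPGroup p (S : Subgroup G) := S.isPGroup'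
  have hDS : D ≤ (S : Subgroup G) := hD.1
  have hDp : IsPGroup p D := hSp.to_le hDS
  have hSD : (S : Subgroup G) ≤ normalizer (D : Set G) := le_normalizer_of_stronglyClosed hD
  have hBS : B ≤ (S : Subgroup G) := hB.le_sylow_of_normal S
  have hZA : ∀ A ∈ maxAb e D, Z ≤ A := fun A hA => sInf_le hA
  obtain ⟨A00, hA00⟩ := maxAb_nonempty e D
  have hZc : ∀ x ∈ Z, ∀ y ∈ Z, x * y = y * x := fun x hx y hy =>
    Replacement.mul_comm_of_isMulCommutative hA00.2.1.1 (hZA _ hA00 hx) (hZA _ hA00 hy)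
  have hSZ : (S : Subgroup G) ≤ normalizer (Z : Set G) :=
    hSD.trans (normalizer_le_normalizer_sInf e _)
  -- induction hypothesis in usable form
  have ih' : ∀ B' : Subgroup G, B'.Normal → B' < B → (B' ⊓ Z).Normal := by
    intro B' hB'n hlt
    have hcard : Nat.card B' < Nat.card B := by
      refine lt_of_le_of_ne (Nat.card_le_card_of_injective _ (Subgroup.inclusion_injective hlt.le)) ?_
      intro h
      exact hlt.ne (Subgroup.eq_of_le_of_card_ge hlt.le h.ge)
    exact ih _ hcard B' hB'n (hB.to_le hlt.le) (fun P _ hP => hst P (hP.trans hlt.le)) rfl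
  by_contra hcon
  -- step 1: B is the normal closure of B ⊓ Z
  have hB1 : normalClosure ((B ⊓ Z : Subgroup G) : Set G) = B := by
    have hle : normalClosure ((B ⊓ Z : Subgroup G) : Set G) ≤ B :=
      Subgroup.normalClosure_le_normal (fun x hx => hx.1)
    by_contra hne
    have h1 := ih' _ Subgroup.normalClosure_normal (lt_of_le_of_ne hle hne)
    have h2 : normalClosure ((B ⊓ Z : Subgroup G) : Set G) ⊓ Z = B ⊓ Z := by
      apply le_antisymm
      · exact inf_le_inf_right _ hle
      · exact le_inf Subgroup.le_normalClosure inf_le_right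
    rw [h2] at h1
    exact hcon h1
  have hBD : B ≤ D := by
    have hBDn : (B ⊓ D).Normal := inf_normal_of_stronglyClosed hD hBn hBS
    have h1 : normalClosure ((B ⊓ Z : Subgroup G) : Set G) ≤ B ⊓ D :=
      Subgroup.normalClosure_le_normal (fun x hx => ⟨hx.1, hA00.1 (hZA _ hA00 hx.2)⟩)
    rw [hB1] at h1
    exact h1.trans inf_le_right
  have hBbot : B ≠ ⊥ := by
    rintro rfl
    apply hcon
    rw [bot_inf_eq]
    infer_instance
  -- step 2: B' < B
  have hBBn : (⁅B, B⁆ : Subgroup G).Normal := Subgroup.commutator_normal B B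
  have hBBle : ⁅B, B⁆ ≤ B := Subgroup.commutator_le_left B B
  have hBBlt : ⁅B, B⁆ < B := by
    refine lt_of_le_of_ne hBBle ?_
    intro h
    have : Group.IsNilpotent B := hB.isNilpotent
    have : Nontrivial B := (Subgroup.nontrivial_iff_ne_bot B).mpr hBbot
    have h1 : commutator B < ⊤ := Group.IsSolvable.commutator_lt_top_of_nontrivial B
    apply h1.ne
    have h2 : (commutator B).map B.subtype = ⁅B, B⁆ := by
      rw [commutator_def, Subgroup.map_commutator, ← MonoidHom.range_eq_map, Subgroup.range_subtype]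
    rw [h] at h2
    rw [eq_top_iff]
    intro x _
    have h3 : (x : G) ∈ (commutator B).map B.subtype := by rw [h2]; exact x.2
    obtain ⟨y, hy, hyx⟩ := h3
    have : y = x := Subtype.ext hyx
    rwa [← this]
  have hT : (⁅B, B⁆ ⊓ Z).Normal := ih' _ hBBn hBBlt
  -- step 3: ⁅B,B⁆ ≤ Z
  have hBZ : ⁅B, B⁆ ≤ ⁅B, B⁆ ⊓ Z := by
    have h1 : ⁅B, normalClosure ((B ⊓ Z : Subgroup G) : Set G)⁆ ≤ ⁅B, B⁆ ⊓ Z := by
      refine commutator_normalClosure_le hBn hT ?_
      intro b hb z hz
      refine ⟨Subgroup.commutator_mem_commutator hb hz.1, ?_⟩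
      rw [commutatorElement_def]
      exact Z.mul_mem ((Subgroup.mem_normalizer_iff.mp (hSZ (hBS hb)) z).mp hz.2) (Z.inv_mem hz.2)
    rwa [hB1] at h1
  have hBZ' : ⁅B, B⁆ ≤ Z := hBZ.trans inf_le_right
  -- step 4: class at most two
  have hcl : ⁅⁅B, B⁆, B⁆ = ⊥ := by
    rw [eq_bot_iff]
    have h1 : ⁅⁅B, B⁆, normalClosure ((B ⊓ Z : Subgroup G) : Set G)⁆ ≤ ⊥ := by
      refine commutator_normalClosure_le hBBn inferInstance ?_
      intro b hb z hz
      rw [Subgroup.mem_bot, commutatorElement_eq_one_iff_mul_comm]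
      exact hZc b (hBZ' hb) z hz.2
    rwa [hB1] at h1
  have hDB : D ≤ normalizer (B : Set G) := by
    rw [Subgroup.normalizer_eq_top]
    exact le_top
  -- stability
  set K : Subgroup G := kernelCore p B with hKdef
  have hstK : ∀ A ∈ maxAb e D, B ≤ normalizer (A : Set G) → A ≤ K :=
    fun A hA h => le_kernelCore (hst B le_rfl) (hA.1.trans hDS) hA.2.1.1 h
  -- step 5: choose A with |A ∩ B| maximal
  obtain ⟨A, hA, hAmax⟩ := Set.exists_max_image (maxAb e D)
    (fun A => Nat.card (A ⊓ B : Subgroup G)) (Set.toFinite _) ⟨A00, hA00⟩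
  have card_lt : ∀ {X Y : Subgroup G}, X < Y → Nat.card X < Nat.card Y := by
    intro X Y hXY
    refine lt_of_le_of_ne (Nat.card_le_card_of_injective _ (Subgroup.inclusion_injective hXY.le)) ?_
    intro h
    exact hXY.ne (Subgroup.eq_of_le_of_card_ge hXY.le h.ge)
  have hAN : B ≤ normalizer (A : Set G) := by
    by_contra hnot
    obtain ⟨A', hA', hlt, _⟩ := exists_replacement hp he hDp hA hBD hDB hcl
      (hBZ'.trans (hZA A hA)) hnot
    exact absurd (hAmax A' hA') (not_le.mpr (card_lt hlt))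
  have hAK : A ≤ K := hstK A hA hAN
  have hAQ : A ≤ K ⊓ D := le_inf hAK hA.1
  have hmaxQ := maxAb_eq_of_le (S := D) (Q := K ⊓ D) inf_le_right hA hAQ
  -- Frattini
  obtain ⟨k, hk⟩ := kernelCore_relIndex p B
  have hKn : K.Normal := kernelCore_normal p B
  have hfr := frattini_sup S (centralizer (B : Set G)) K hKn hk
  have hKD : normalizer ((K ⊓ (S : Subgroup G) : Subgroup G) : Set G) ≤
      normalizer ((K ⊓ D : Subgroup G) : Set G) := by
    intro g hg
    refine mem_normalizer_of_conj_mem fun a ha => ?_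
    have h1 : g * a * g⁻¹ ∈ K ⊓ (S : Subgroup G) :=
      ((Subgroup.mem_normalizer_iff.mp hg) a).mp ⟨ha.1, hDS ha.2⟩
    exact ⟨h1.1, hD.2 a ha.2 g h1.2⟩
  -- B ⊓ ZQ normal
  set ZQ : Subgroup G := sInf (maxAb e (K ⊓ D)) with hZQ
  have hZQn : (B ⊓ ZQ).Normal := by
    rw [← Subgroup.normalizer_eq_top_iff, eq_top_iff, ← hfr]
    refine sup_le ?_ ?_
    · intro g hg
      rw [Subgroup.mem_normalizer_iff]
      have hcent : ∀ b ∈ B, g * b * g⁻¹ = b := by
        intro b hb
        rw [← Subgroup.mem_centralizer_iff.mp hg b hb, mul_inv_cancel_right]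
      intro b
      constructor
      · intro hb
        rw [hcent b hb.1]
        exact hb
      · intro hb
        have hb' : b ∈ B := by
          have := hBn.conj_mem _ hb.1 g⁻¹
          simpa [mul_assoc] using this
        rwa [hcent b hb'] at hb
    · intro g hg
      have h1 := normalizer_le_normalizer_sInf e _ (hKD hg)
      rw [Subgroup.mem_normalizer_iff] at h1 ⊢
      intro b
      constructor
      · intro hb
        exact ⟨hBn.conj_mem _ hb.1 g, (h1 b).mp hb.2⟩
      · intro hb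
        refine ⟨?_, (h1 b).mpr hb.2⟩
        have := hBn.conj_mem _ hb.1 g⁻¹
        simpa [mul_assoc] using this
  have hZZQ : Z ≤ ZQ := by
    refine le_sInf fun A' hA' => ?_
    rw [hmaxQ] at hA'
    exact hZA A' hA'.1
  have hBZQ : B ≤ ZQ := by
    have h1 : normalClosure ((B ⊓ Z : Subgroup G) : Set G) ≤ B ⊓ ZQ :=
      Subgroup.normalClosure_le_normal (fun x hx => ⟨hx.1, hZZQ hx.2⟩)
    rw [hB1] at h1
    exact h1.trans inf_le_right
  -- step 6
  by_cases hall : ∀ A' ∈ maxAb e D, A' ≤ K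
  · have h1 : maxAb e (K ⊓ D) = maxAb e D := by
      rw [hmaxQ]
      ext A'
      exact ⟨fun h => h.1, fun h => ⟨h, le_inf (hall A' h) h.1⟩⟩
    rw [hZQ, h1] at hZQn
    exact hcon hZQn
  · push Not at hall
    obtain ⟨A1, ⟨hA1, hA1K⟩, hA1max⟩ := Set.exists_max_image
      {A' | A' ∈ maxAb e D ∧ ¬ A' ≤ K}
      (fun A => Nat.card (A ⊓ B : Subgroup G)) (Set.toFinite _)
      (by obtain ⟨A1, h1, h2⟩ := hall; exact ⟨A1, h1, h2⟩)
    have hnot : ¬ B ≤ normalizer (A1 : Set G) := fun h => hA1K (hstK A1 hA1 h)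
    obtain ⟨A', hA', hlt, hnorm⟩ := exists_replacement hp he hDp hA1 hBD hDB hcl
      (hBZ'.trans (hZA A1 hA1)) hnot
    have hA'K : A' ≤ K := by
      by_contra h
      exact absurd (hA1max A' ⟨hA', h⟩) (not_le.mpr (card_lt hlt))
    have hA'Q : A' ∈ maxAb e (K ⊓ D) := by
      rw [hmaxQ]
      exact ⟨hA', le_inf hA'K hA'.1⟩
    exact hnot ((hBZQ.trans (sInf_le hA'Q)).trans hnorm)

/-- If `C_G(O_p(G)) ≤ O_p(G)` and `G` acts `p`-stably on its normal `p`-subgroups (`p` odd), `D` strongly
closed in the Sylow subgroup `S`, then `⋂ maxAb e D` is normal in `G`. -/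
theorem sInf_maxAb_normal [Finite G] {p : ℕ} [Fact p.Prime] (hp : p ≠ 2) {e : ℕ}
    (he : e = 0 ∨ Odd e) (hc : centralizer (pCore p G : Set G) ≤ pCore p G)
    (S : Sylow p G) (D : Subgroup G) (hD : Cfsg.IsStronglyClosed D (S : Subgroup G))
    (hst : ∀ (P : Subgroup G) [P.Normal], IsPGroup p P → StableFor p (S : Subgroup G) P) :
    (sInf (maxAb e D)).Normal := by
  set Z : Subgroup G := sInf (maxAb e D) with hZdef
  have hO : (pCore p G).Normal := Cfsg.Agent.Lib.Cores.pCore_normal p
  have hOp : IsPGroup p (pCore p G) := Cfsg.Agent.Lib.Cores.pCore_isPGroup p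
  have hOS : pCore p G ≤ (S : Subgroup G) := hOp.le_sylow_of_normal S
  obtain ⟨A0, hA0⟩ := maxAb_nonempty e D
  have hZA0 : Z ≤ A0 := sInf_le hA0
  have hSZ : (S : Subgroup G) ≤ normalizer (Z : Set G) :=
    (le_normalizer_of_stronglyClosed hD).trans (normalizer_le_normalizer_sInf e _)
  have hZK : Z ≤ kernelCore p (pCore p G) :=
    le_kernelCore (hst _ hOp) ((hZA0.trans hA0.1).trans hD.1)
      (isElementaryAbelian_of_le hA0.2.1 hZA0).1 (hOS.trans hSZ)
  have hKp : IsPGroup p (kernelCore p (pCore p G)) := by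
    refine IsPGroup.comap_of_ker_isPGroup (Cfsg.Agent.Lib.Cores.pCore_isPGroup p) _ ?_
    rw [QuotientGroup.ker_mk']
    exact hOp.to_le hc
  have hKO : kernelCore p (pCore p G) ≤ pCore p G :=
    Cfsg.Agent.Lib.Cores.le_pCore (kernelCore_normal p _) hKp
  have h1 := inf_sInf_maxAb_normal_of_stronglyClosed hp he S D hD (pCore p G) hO hOp
    (fun P _ hP => hst P (hOp.to_le hP))
  rwa [inf_eq_right.mpr (hZK.trans hKO)] at h1

/-- `Ω₁(Z(J_e(D)))` as in the statements. -/
theorem omegaOne_centerThompsonOf_eq [Finite G] (p : ℕ) (D : Subgroup G) :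
    omegaOne p (centerThompsonOf p D) = sInf (maxAb p D) := by
  change omegaOne p (thompsonSubgroupOf p D ⊓ centralizer (thompsonSubgroupOf p D : Set G)) = _
  rw [thompsonSubgroupOf_eq, sInf_maxAb_eq_omegaOne]

/-- `p`-stability in the normalizer form gives `p`-stability on the normal `p`-subgroups. -/
theorem stableFor_of_isNormalizerPStable [Finite G] {p : ℕ} [Fact p.Prime]
    (h : Cfsg.IsNormalizerPStable p G) (S P : Subgroup G) [P.Normal] (hP : IsPGroup p P) :
    StableFor p S P := by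
  intro a _ hq
  have hN : normalizer (P : Set G) = ⊤ := normalizer_eq_top P
  have ha : a ∈ normalizer (P : Set G) := by rw [hN]; trivial
  have h1 := h P hP a ha hq
  -- the homomorphism `N_G(P)/C_G(P) → G/C_G(P)` is surjective, the image of `O_p` is a normal `p`-subgroup
  have hle : (centralizer (P : Set G)).subgroupOf (normalizer (P : Set G)) ≤
      (centralizer (P : Set G)).comap (normalizer (P : Set G)).subtype := le_rfl
  let f := QuotientGroup.map _ _ (normalizer (P : Set G)).subtype hle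
  have hf : Function.Surjective f := by
    intro z
    obtain ⟨y, rfl⟩ := QuotientGroup.mk'_surjective _ z
    refine ⟨QuotientGroup.mk ⟨y, by rw [hN]; trivial⟩, rfl⟩
  have hcore : (pCore p (↥(normalizer (P : Set G)) ⧸
      (centralizer (P : Set G)).subgroupOf (normalizer (P : Set G)))).Normal :=
    Cfsg.Agent.Lib.Cores.pCore_normal p
  have hcorep : IsPGroup p (pCore p (↥(normalizer (P : Set G)) ⧸
      (centralizer (P : Set G)).subgroupOf (normalizer (P : Set G)))) :=
    Cfsg.Agent.Lib.Cores.pCore_isPGroup p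
  have h2 : (pCore p (↥(normalizer (P : Set G)) ⧸
      (centralizer (P : Set G)).subgroupOf (normalizer (P : Set G)))).map f ≤
      pCore p (G ⧸ centralizer (P : Set G)) :=
    Cfsg.Agent.Lib.Cores.le_pCore (hcore.map f hf) (hcorep.map f)
  exact h2 ⟨_, h1, rfl⟩

end Cfsg.Agent.H280.StrongZJ
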