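import Mathlib
import Cfsg.Prelude.Def_LocalEven
import Cfsg.Agent.Lib.Cores
import Cfsg.Agent.Transfer.FusionNonCentric
import Cfsg.Agent.Transfer.PGroupNormal
import Cfsg.Agent.H280.StrongQuot

set_option autoImplicit false

/-!
# Strongly closed subgroups and the control of strong fusion

`D` strongly closed in the Sylow `p`-subgroup `P` of `G`, `Z(D) = ⋂ maxAb e D` (`p ∣ e`; `e = 0`: `Z(J(D))`,
`e = p`: `Ω₁(Z(J_e(D)))`).

* `ctrl_of_local_stronglyClosed`: if `N_{N_G(R)}(Z(E))` controls fusion in `T` for `1 ≠ R ≤ P`, `T` Sylow in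
  `N_G(R)` and `E` strongly closed in `T`, then `N_G(Z(D))` controls fusion in `P`.
* `ctrl_of_class`: Glauberman's theorem for strongly closed subgroups, in a class of groups closed under
  subgroups and quotients in which `Z(D)` is normal in the members with `C_G(O_p(G)) ≤ O_p(G)`.
-/

namespace Cfsg.Agent.H280.StrongFusion

open Subgroup Cfsg
open Cfsg.Agent.PLocal Cfsg.Agent.PLocal.ZJ
open Cfsg.Agent.Transfer.FusionBasic Cfsg.Agent.Transfer.FusionCases
open Cfsg.Agent.Transfer.FusionNonCentric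
open Cfsg.Agent.H280.StrongZJ Cfsg.Agent.H280.StrongQuot

universe u

section dpart

variable {G : Type*} [Group G]

/-- The subgroup generated by the elements of `R` that are conjugate to elements of `D`. -/
def dPart (D R : Subgroup G) : Subgroup G := closure {x | x ∈ R ∧ ∃ g : G, g * x * g⁻¹ ∈ D}

theorem dPart_le (D R : Subgroup G) : dPart D R ≤ R :=
  (closure_le _).mpr fun _ hx => hx.1

/-- If `y R y⁻¹ ≤ P` then `dPart D R` is the intersection of `R` with `y⁻¹ D y`. -/
theorem mem_dPart_iff_of_conj {D S R : Subgroup G} (hD : Cfsg.IsStronglyClosed D S) {y : G}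
    (hy : ∀ r ∈ R, y * r * y⁻¹ ∈ S) {x : G} : x ∈ dPart D R ↔ x ∈ R ∧ y * x * y⁻¹ ∈ D := by
  constructor
  · intro hx
    have hle : dPart D R ≤ R ⊓ D.comap (MulAut.conj y).toMonoidHom := by
      refine (closure_le _).mpr ?_
      rintro x ⟨hxR, g, hg⟩
      refine ⟨hxR, ?_⟩
      change y * x * y⁻¹ ∈ D
      have h1 := hD.2 _ hg (y * g⁻¹)
      have e : y * g⁻¹ * (g * x * g⁻¹) * (y * g⁻¹)⁻¹ = y * x * y⁻¹ := by group
      rw [e] at h1
      exact h1 (hy x hxR)
    exact hle hx
  · rintro ⟨h1, h2⟩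
    exact subset_closure ⟨h1, y, h2⟩

theorem mem_dPart_iff [Finite G] {p : ℕ} [Fact p.Prime] (P : Sylow p G) {D R : Subgroup G}
    (hD : Cfsg.IsStronglyClosed D (P : Subgroup G)) (hR : IsPGroup p R) {x : G} :
    x ∈ dPart D R ↔ x ∈ R ∧ ∃ g : G, g * x * g⁻¹ ∈ D := by
  obtain ⟨y, -, hy⟩ := (sylIn_top P).conj_le (R := R) le_top hR
  constructor
  · intro hx
    have h1 := (mem_dPart_iff_of_conj hD hy).mp hx
    exact ⟨h1.1, y, h1.2⟩
  · intro hx
    exact subset_closure hx

theorem dPart_eq_inf {D S R : Subgroup G} (hD : Cfsg.IsStronglyClosed D S) (hR : R ≤ S) :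
    dPart D R = R ⊓ D := by
  ext x
  rw [mem_dPart_iff_of_conj hD (y := 1) (fun r hr => by simpa using hR hr), Subgroup.mem_inf]
  simp

theorem dPart_map_conj (D R : Subgroup G) (y : G) :
    dPart D (R.map (MulAut.conj y).toMonoidHom) = (dPart D R).map (MulAut.conj y).toMonoidHom := by
  rw [dPart, dPart, MonoidHom.map_closure]
  congr 1
  ext x
  constructor
  · rintro ⟨hx, g, hg⟩
    rw [mem_map_conj_iff] at hx
    refine ⟨y⁻¹ * x * y, ⟨hx, g * y, ?_⟩, ?_⟩
    · have e : g * y * (y⁻¹ * x * y) * (g * y)⁻¹ = g * x * g⁻¹ := by group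
      rwa [e]
    · change y * (y⁻¹ * x * y) * y⁻¹ = x
      group
  · rintro ⟨x, ⟨hx, g, hg⟩, rfl⟩
    refine ⟨⟨x, hx, rfl⟩, g * y⁻¹, ?_⟩
    change g * y⁻¹ * (y * x * y⁻¹) * (g * y⁻¹)⁻¹ ∈ D
    have e : g * y⁻¹ * (y * x * y⁻¹) * (g * y⁻¹)⁻¹ = g * x * g⁻¹ := by group
    rwa [e]

theorem dPart_stronglyClosed [Finite G] {p : ℕ} [Fact p.Prime] (P : Sylow p G)
    {D S : Subgroup G} (hD : Cfsg.IsStronglyClosed D (P : Subgroup G)) (hS : IsPGroup p S) :
    Cfsg.IsStronglyClosed (dPart D S) S := by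
  refine ⟨dPart_le D S, fun x hx g hg => ?_⟩
  rw [mem_dPart_iff P hD hS] at hx ⊢
  obtain ⟨_, k, hk⟩ := hx
  refine ⟨hg, k * g⁻¹, ?_⟩
  have e : k * g⁻¹ * (g * x * g⁻¹) * (k * g⁻¹)⁻¹ = k * x * k⁻¹ := by group
  rwa [e]

/-- A nontrivial strongly closed subgroup meets the centre of `P`. -/
theorem exists_mem_center [Finite G] {p : ℕ} [Fact p.Prime] (P : Sylow p G)
    {D : Subgroup G} (hD : Cfsg.IsStronglyClosed D (P : Subgroup G)) (hD1 : D ≠ ⊥) :
    ∃ d ∈ D, d ≠ 1 ∧ ∀ x ∈ (P : Subgroup G), x * d = d * x := by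
  have hPD := le_normalizer_of_stronglyClosed hD
  have hn : (D.subgroupOf (P : Subgroup G)).Normal :=
    (normal_subgroupOf_iff_le_normalizer hD.1).mpr hPD
  have h1 : D.subgroupOf (P : Subgroup G) ≠ ⊥ := by
    intro h
    rw [subgroupOf_eq_bot, disjoint_iff, inf_eq_left.mpr hD.1] at h
    exact hD1 h
  obtain ⟨z, hzD, hzc, hzp⟩ :=
    Cfsg.Agent.Transfer.PGroupNormal.exists_mem_inf_center_orderOf P.isPGroup' _ h1
  refine ⟨(z : G), hzD, ?_, ?_⟩
  · intro h
    have hz1 : z = 1 := Subtype.ext h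
    rw [hz1, orderOf_one] at hzp
    exact (Fact.out : p.Prime).one_lt.ne hzp
  · intro y hy
    have := (Subgroup.mem_center_iff.mp hzc) ⟨y, hy⟩
    exact congrArg Subtype.val this

theorem dPart_ne_bot [Finite G] {p : ℕ} [Fact p.Prime] (P : Sylow p G)
    {D R S : Subgroup G} (hD : Cfsg.IsStronglyClosed D (P : Subgroup G)) (hD1 : D ≠ ⊥)
    (hR : IsPGroup p R) (hS : SylIn p S (normalizer (R : Set G))) : dPart D S ≠ ⊥ := by
  obtain ⟨y, -, hy⟩ := (sylIn_top P).conj_le (R := S) le_top hS.isPGroup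
  obtain ⟨d, hd, hd1, hdc⟩ := exists_mem_center P hD hD1
  obtain ⟨z, hz⟩ : ∃ z, z = y⁻¹ * d * y := ⟨_, rfl⟩
  -- `R ≤ S`
  have hRS : R ≤ S := by
    obtain ⟨x, hx, hxR⟩ := hS.conj_le (R := R) le_normalizer hR
    intro r hr
    have h1 : x⁻¹ * r * x ∈ R := by
      have := ((Subgroup.mem_normalizer_iff.mp (inv_mem hx)) r).mp hr
      rwa [inv_inv] at this
    have h2 := hxR _ h1
    have e : x * (x⁻¹ * r * x) * x⁻¹ = r := by group
    rwa [e] at h2
  -- `z` centralizes `S`
  have hzS : ∀ s ∈ S, s * z = z * s := by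
    intro s hs
    have h1 := hdc _ (hy s hs)
    calc s * z = y⁻¹ * (y * s * y⁻¹ * d) * y := by rw [hz]; group
      _ = y⁻¹ * (d * (y * s * y⁻¹)) * y := by rw [h1]
      _ = z * s := by rw [hz]; group
  have hzR : z ∈ normalizer (R : Set G) := by
    refine mem_normalizer_of_conj_mem fun r hr => ?_
    rw [← hzS r (hRS hr), mul_inv_cancel_right]; exact hr
  have hzp : IsPGroup p (zpowers z) := by
    have h1 : IsPGroup p (zpowers d) := P.isPGroup'.to_le (by rw [zpowers_le]; exact hD.1 hd)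
    have h2 : zpowers z = (zpowers d).map (MulAut.conj y⁻¹).toMonoidHom := by
      rw [MonoidHom.map_zpowers, hz]
      congr 1
      simp
    rw [h2]; exact h1.map _
  have hSz : S ≤ normalizer (zpowers z : Set G) := by
    intro s hs
    refine mem_normalizer_of_conj_mem fun a ha => ?_
    obtain ⟨k, rfl⟩ := Subgroup.mem_zpowers_iff.mp ha
    have h1 : Commute s (z ^ k) := (show Commute s z from hzS s hs).zpow_right k
    rw [h1.eq, mul_inv_cancel_right]; exact ha
  have hsup : IsPGroup p (S ⊔ zpowers z : Subgroup G) := hS.isPGroup.to_sup_of_normal_right' hzp hSz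
  have h3 := hS.2.2 (S ⊔ zpowers z) le_sup_left
    (sup_le hS.le (by rw [zpowers_le]; exact hzR)) hsup
  have hzS' : z ∈ S := by
    rw [← h3]; exact (le_sup_right : zpowers z ≤ S ⊔ zpowers z) (mem_zpowers z)
  intro hbot
  have h4 : z ∈ dPart D S := by
    refine subset_closure ⟨hzS', y, ?_⟩
    have e : y * z * y⁻¹ = d := by rw [hz]; group
    rwa [e]
  rw [hbot, mem_bot] at h4
  apply hd1
  have e : d = y * z * y⁻¹ := by rw [hz]; group
  rw [e, h4]; group

end dpart

section ctrl

variable {G : Type*} [Group G]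

/-- From `L` to `G`. -/
theorem ind_of_subgroup [Finite G] {p : ℕ} {e : ℕ} {L S E : Subgroup G} (hS : SylIn p S L)
    (hE : E ≤ S)
    (hL : ∀ T : Sylow p L, (T : Subgroup L) = S.subgroupOf L →
      Ctrl (T : Subgroup L) (normalizer ((sInf (maxAb e (E.subgroupOf L)) : Subgroup L) : Set L)))
    {H : Subgroup G} (hHS : H ≤ S) {g : G} (hgL : g ∈ L) (hg : ∀ h ∈ H, g * h * g⁻¹ ∈ S) :
    Ind (L ⊓ normalizer ((sInf (maxAb e E) : Subgroup G) : Set G)) H g := by
  obtain ⟨T, hT⟩ := hS.exists_sylow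
  have hTS : (T : Subgroup L) = S.subgroupOf L := by
    rw [← hT]
    exact (comap_map_eq_self_of_injective L.subtype_injective _).symm
  obtain ⟨m, hm, hmh⟩ := hL T hTS (H.subgroupOf L) ⟨g, hgL⟩
    (fun x hx => by rw [hTS]; exact hHS hx)
    (fun x hx => by rw [hTS]; exact hg _ hx)
  have hEL : (E.subgroupOf L).map L.subtype = E := by
    rw [subgroupOf_map_subtype, inf_eq_left.mpr (hE.trans hS.le)]
  have hW : sInf (maxAb e E) = (sInf (maxAb e (E.subgroupOf L))).map L.subtype := by
    rw [map_sInf_maxAb_of_injective L.subtype_injective, hEL]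
  refine ⟨m, Subgroup.mem_inf.mpr ⟨m.2, ?_⟩, fun h hh => ?_⟩
  · rw [hW]
    exact Subgroup.le_normalizer_map L.subtype ⟨m, hm, rfl⟩
  · have hhL : h ∈ L := hS.le (hHS hh)
    have := congrArg Subtype.val (hmh ⟨h, hhL⟩ (mem_subgroupOf.mpr hh))
    exact this

theorem ind_of_map_conj {M H : Subgroup G} {g : G} (y : G)
    (h : Ind (M.map (MulAut.conj y).toMonoidHom) (H.map (MulAut.conj y).toMonoidHom)
      (y * g * y⁻¹)) : Ind M H g := by
  obtain ⟨m, hm, hmh⟩ := h
  rw [mem_map_conj_iff] at hm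
  refine ⟨y⁻¹ * m * y, hm, fun x hx => ?_⟩
  have h1 := hmh (y * x * y⁻¹) ⟨x, hx, rfl⟩
  calc y⁻¹ * m * y * x * (y⁻¹ * m * y)⁻¹ = y⁻¹ * (m * (y * x * y⁻¹) * m⁻¹) * y := by group
    _ = y⁻¹ * (y * g * y⁻¹ * (y * x * y⁻¹) * (y * g * y⁻¹)⁻¹) * y := by rw [h1]
    _ = g * x * g⁻¹ := by group

open Classical in
/-- The conjugacy functor attached to a strongly closed subgroup. -/
noncomputable def wFun (e : ℕ) (D R : Subgroup G) : Subgroup G :=
  if dPart D R = ⊥ then R else sInf (maxAb e (dPart D R))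

theorem wFun_of_ne {e : ℕ} {D R : Subgroup G} (h : dPart D R ≠ ⊥) :
    wFun e D R = sInf (maxAb e (dPart D R)) := by
  rw [wFun, if_neg h]

theorem wFun_of_eq {e : ℕ} {D R : Subgroup G} (h : dPart D R = ⊥) : wFun e D R = R := by
  rw [wFun, if_pos h]

theorem wFun_le [Finite G] (e : ℕ) (D R : Subgroup G) : wFun e D R ≤ R := by
  by_cases h : dPart D R = ⊥
  · rw [wFun_of_eq h]
  · rw [wFun_of_ne h]
    exact (sInf_maxAb_le e _).trans (dPart_le D R)

theorem wFun_map_conj (e : ℕ) (D R : Subgroup G) (x : G) :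
    wFun e D (R.map (MulAut.conj x).toMonoidHom) = (wFun e D R).map (MulAut.conj x).toMonoidHom := by
  by_cases h : dPart D R = ⊥
  · rw [wFun_of_eq h, wFun_of_eq]
    rw [dPart_map_conj, h, Subgroup.map_bot]
  · rw [wFun_of_ne h, wFun_of_ne, dPart_map_conj]
    · exact (map_sInf_maxAb (MulAut.conj x) e _).symm
    · rw [dPart_map_conj]
      intro h1
      rw [Subgroup.map_eq_bot_iff_of_injective _ (MulAut.conj x).injective] at h1
      exact h h1

theorem wFun_ne_bot [Finite G] {p : ℕ} [Fact p.Prime] {e : ℕ} (he : p ∣ e) (D R : Subgroup G)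
    (hR : IsPGroup p R) (hR1 : R ≠ ⊥) : wFun e D R ≠ ⊥ := by
  by_cases h : dPart D R = ⊥
  · rwa [wFun_of_eq h]
  · rw [wFun_of_ne h]
    exact sInf_maxAb_ne_bot he (hR.to_le (dPart_le D R)) h

/-- **Local control implies global control**, for strongly closed subgroups. -/
theorem ctrl_of_local_stronglyClosed [Finite G] {p : ℕ} [Fact p.Prime] {e : ℕ} (he : p ∣ e)
    (P : Sylow p G) {D : Subgroup G} (hD : Cfsg.IsStronglyClosed D (P : Subgroup G)) (hD1 : D ≠ ⊥)
    (hloc : ∀ R : Subgroup G, R ≤ (P : Subgroup G) → R ≠ ⊥ →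
      ∀ (T : Sylow p ↥(normalizer (R : Set G))) (E : Subgroup ↥(normalizer (R : Set G))),
        Cfsg.IsStronglyClosed E (T : Subgroup ↥(normalizer (R : Set G))) →
          Ctrl (T : Subgroup ↥(normalizer (R : Set G)))
            (normalizer ((sInf (maxAb e E) : Subgroup ↥(normalizer (R : Set G))) :
              Set ↥(normalizer (R : Set G))))) :
    Ctrl (P : Subgroup G) (normalizer ((sInf (maxAb e D) : Subgroup G) : Set G)) := by
  have hdP : dPart D (P : Subgroup G) = D := by
    rw [dPart_eq_inf hD le_rfl, inf_eq_right.mpr hD.1]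
  have hWP : wFun e D (P : Subgroup G) = sInf (maxAb e D) := by
    rw [wFun_of_ne (by rwa [hdP]), hdP]
  rw [← hWP]
  refine ctrl_of_local P (wFun e D) (wFun_le e D) (fun R x _ => wFun_map_conj e D R x)
    (fun R hR hR1 => wFun_ne_bot he D R hR hR1) ?_
  intro R hR hR1 S hS H hHS g hg hgS
  -- conjugate into `P`
  obtain ⟨y, -, hy⟩ := (sylIn_top P).conj_le (R := S) le_top hS.isPGroup
  have hRS : R ≤ S := by
    obtain ⟨x, hx, hxR⟩ := hS.conj_le (R := R) le_normalizer hR
    intro r hr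
    have h1 : x⁻¹ * r * x ∈ R := by
      have := ((Subgroup.mem_normalizer_iff.mp (inv_mem hx)) r).mp hr
      rwa [inv_inv] at this
    have h2 := hxR _ h1
    have e : x * (x⁻¹ * r * x) * x⁻¹ = r := by group
    rwa [e] at h2
  apply ind_of_map_conj y
  obtain ⟨R', hR'⟩ : ∃ R', R' = R.map (MulAut.conj y).toMonoidHom := ⟨_, rfl⟩
  obtain ⟨S', hS'⟩ : ∃ S', S' = S.map (MulAut.conj y).toMonoidHom := ⟨_, rfl⟩
  have hS'P : S' ≤ (P : Subgroup G) := by rw [hS', map_conj_le_iff]; exact hy
  have hR'P : R' ≤ (P : Subgroup G) := by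
    rw [hR', map_conj_le_iff]; exact fun a ha => hy a (hRS ha)
  have hR'1 : R' ≠ ⊥ := by
    rw [hR']
    intro h
    exact hR1 ((Subgroup.map_eq_bot_iff_of_injective _ (MulAut.conj y).injective).mp h)
  have hN' : normalizer (R' : Set G) = (normalizer (R : Set G)).map (MulAut.conj y).toMonoidHom := by
    rw [hR', normalizer_map_conj]
  have hSyl' : SylIn p S' (normalizer (R' : Set G)) := by
    rw [hN', hS']; exact hS.map_conj y
  have hS'p : IsPGroup p S' := hSyl'.isPGroup
  have hR'p : IsPGroup p R' := P.isPGroup'.to_le hR'P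
  have hdne : dPart D S' ≠ ⊥ := dPart_ne_bot P hD hD1 hR'p hSyl'
  have hW : (wFun e D S).map (MulAut.conj y).toMonoidHom = sInf (maxAb e (dPart D S')) := by
    rw [← wFun_map_conj, ← hS', wFun_of_ne hdne]
  have key : Ind (normalizer (R' : Set G) ⊓
      normalizer ((sInf (maxAb e (dPart D S')) : Subgroup G) : Set G))
      (H.map (MulAut.conj y).toMonoidHom) (y * g * y⁻¹) := by
    refine ind_of_subgroup hSyl' (dPart_le D S') ?_ (by rw [hS']; exact map_mono hHS) ?_ ?_
    · intro T hT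
      refine hloc R' hR'P hR'1 T _ ?_
      rw [hT]
      exact stronglyClosed_subgroupOf (dPart_stronglyClosed P hD hS'p)
    · rw [hN', mem_map_conj_iff]
      have e : y⁻¹ * (y * g * y⁻¹) * y = g := by group
      rwa [e]
    · rintro _ ⟨h, hh, rfl⟩
      rw [hS', mem_map_conj_iff]
      have e : y⁻¹ * (y * g * y⁻¹ * ((MulAut.conj y).toMonoidHom h) * (y * g * y⁻¹)⁻¹) * y =
        g * h * g⁻¹ := by
        change y⁻¹ * (y * g * y⁻¹ * (y * h * y⁻¹) * (y * g * y⁻¹)⁻¹) * y = _
        group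
      rw [e]
      exact hgS h hh
  refine key.mono ?_ le_rfl
  rw [← hW, hN', normalizer_map_conj]
  intro x hx
  have h1 := mem_map_conj_iff.mp (Subgroup.mem_inf.mp hx).1
  have h2 := mem_map_conj_iff.mp (Subgroup.mem_inf.mp hx).2
  rw [mem_map_conj_iff]
  exact Subgroup.mem_inf.mpr ⟨h1, h2⟩

theorem ctrl_of_eq_bot [Finite G] {e : ℕ} (P : Subgroup G) :
    Ctrl P (normalizer ((sInf (maxAb e (⊥ : Subgroup G)) : Subgroup G) : Set G)) := by
  intro H g _ _
  have h1 : sInf (maxAb e (⊥ : Subgroup G)) = ⊥ := le_bot_iff.mp (sInf_maxAb_le e ⊥)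
  rw [h1]
  refine ind_of_mem ?_
  rw [normalizer_eq_top (⊥ : Subgroup G)]
  trivial

end ctrl

/-- **Glauberman's theorem for strongly closed subgroups.** -/
theorem ctrl_of_card {p : ℕ} [Fact p.Prime] {e : ℕ} (he : p ∣ e)
    (𝒢 : ∀ (G : Type u) [Group G], Prop)
    (hsub : ∀ (G : Type u) [Group G] [Finite G] (L : Subgroup G), 𝒢 G → 𝒢 L)
    (hquot : ∀ (G : Type u) [Group G] [Finite G] (N : Subgroup G) [N.Normal], 𝒢 G → 𝒢 (G ⧸ N))
    (hloc : ∀ (G : Type u) [Group G] [Finite G], 𝒢 G →
      centralizer (pCore p G : Set G) ≤ pCore p G → ∀ (P : Sylow p G) (D : Subgroup G),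
        Cfsg.IsStronglyClosed D (P : Subgroup G) → (sInf (maxAb e D)).Normal) (n : ℕ) :
    ∀ (G : Type u) [Group G] [Finite G], Nat.card G = n → 𝒢 G → ∀ (P : Sylow p G) (D : Subgroup G),
      Cfsg.IsStronglyClosed D (P : Subgroup G) →
      Ctrl (P : Subgroup G) (normalizer ((sInf (maxAb e D) : Subgroup G) : Set G)) := by
  induction n using Nat.strong_induction_on with
  | _ n ih =>
  intro G _ _ hn hG P D hD
  by_cases hD1 : D = ⊥
  · subst hD1; exact ctrl_of_eq_bot _
  -- proper subgroups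
  have hprop : ∀ L : Subgroup G, L ≠ ⊤ → ∀ (T : Sylow p L) (E : Subgroup L),
      Cfsg.IsStronglyClosed E (T : Subgroup L) →
      Ctrl (T : Subgroup L) (normalizer ((sInf (maxAb e E) : Subgroup L) : Set L)) := by
    intro L hL T E hE
    refine ih (Nat.card L) ?_ L rfl (hsub G L hG) T E hE
    rw [← hn]
    exact lt_of_le_of_ne (Subgroup.card_le_card_group L)
      (fun h => hL ((Subgroup.card_eq_iff_eq_top L).mp h))
  -- quotients
  have hquo : ∀ N : Subgroup G, ∀ hN : N.Normal, N ≠ ⊥ → ∀ (T : Sylow p (G ⧸ N))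
      (E : Subgroup (G ⧸ N)), Cfsg.IsStronglyClosed E (T : Subgroup (G ⧸ N)) →
      Ctrl (T : Subgroup (G ⧸ N)) (normalizer ((sInf (maxAb e E) : Subgroup (G ⧸ N)) :
        Set (G ⧸ N))) := by
    intro N hN hN1 T E hE
    refine ih (Nat.card (G ⧸ N)) ?_ (G ⧸ N) rfl (hquot G N hG) T E hE
    rw [← hn, Subgroup.card_eq_card_quotient_mul_card_subgroup N]
    have h1 : 1 < Nat.card N := by
      rw [Subgroup.one_lt_card_iff_ne_bot]; exact hN1
    have h2 : 0 < Nat.card (G ⧸ N) := Nat.card_pos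
    nlinarith
  have hPp : IsPGroup p (P : Subgroup G) := P.isPGroup'
  have hPD := le_normalizer_of_stronglyClosed hD
  have hPW : (P : Subgroup G) ≤ normalizer ((sInf (maxAb e D) : Subgroup G) : Set G) :=
    hPD.trans (normalizer_le_normalizer_sInf e D)
  have hNPD : normalizer ((P : Subgroup G) : Set G) ≤ normalizer (D : Set G) := by
    intro x hx
    refine mem_normalizer_of_conj_mem fun a ha => ?_
    exact hD.2 a ha x (((Subgroup.mem_normalizer_iff.mp hx) a).mp (hD.1 ha))
  by_cases hO : ∀ K : Subgroup G, K.Normal → (Nat.card K).Coprime p → K = ⊥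
  swap
  · -- a nontrivial normal `p'`-subgroup
    push Not at hO
    obtain ⟨K, hKn, hKc, hK1⟩ := hO
    have hmap : (sInf (maxAb e D)).map (QuotientGroup.mk' K) =
        sInf (maxAb e (D.map (QuotientGroup.mk' K))) := by
      apply map_sInf_maxAb_of_injOn
      intro x hx hx1
      have hxK : x ∈ K := (QuotientGroup.eq_one_iff x).mp hx1
      exact eq_one_of_mem_of_coprime hPp hKc (hD.1 hx) hxK
    have hDb := stronglyClosed_map_quotient P hD K
    rw [← Sylow.coe_mapSurjective (QuotientGroup.mk'_surjective K) P] at hDb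
    have h1 := hquo K hKn hK1 (P.mapSurjective (QuotientGroup.mk'_surjective K)) _ hDb
    rw [Sylow.coe_mapSurjective, ← hmap] at h1
    exact ctrl_of_quotient_coprime hPp K hKc _ ((sInf_maxAb_le e D).trans hD.1) hPW h1
  · by_cases hQ1 : pCore p G = ⊥
    · -- `O_p(G) = 1`
      apply ctrl_of_local_stronglyClosed he P hD hD1
      intro R hRP hR1 T E hE
      refine hprop _ ?_ T E hE
      intro htop
      have hRn : R.Normal := normalizer_eq_top_iff.mp htop
      have := Cfsg.Agent.Lib.Cores.le_pCore hRn (hPp.to_le hRP)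
      rw [hQ1, le_bot_iff] at this
      exact hR1 this
    · by_cases hPC : (P : Subgroup G) ⊓ centralizer (pCore p G : Set G) ≤ pCore p G
      · -- characteristic `p`
        have hQn : (pCore p G).Normal := Cfsg.Agent.Lib.Cores.pCore_normal p
        have h1 := centralizer_le_of_sylow_centralizer_le P (pCore p G) hO hPC
        have h2 : (sInf (maxAb e D)).Normal := hloc G hG h1 P D hD
        intro H g _ _
        exact ind_of_mem (by rw [normalizer_eq_top (H := sInf (maxAb e D))]; trivial)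
      · -- the remaining case
        have hQn : (pCore p G).Normal := Cfsg.Agent.Lib.Cores.pCore_normal p
        have hQp : IsPGroup p (pCore p G) := Cfsg.Agent.Lib.Cores.pCore_isPGroup p
        by_cases hDQ : D ≤ pCore p G
        · -- `D` is normal
          have hDn : D.Normal := by
            have h1 := inf_normal_of_stronglyClosed hD hQn (Cfsg.Agent.Lib.Cores.pCore_le_sylow P)
            rwa [inf_eq_right.mpr hDQ] at h1
          intro H g _ _
          refine ind_of_mem (normalizer_le_normalizer_sInf e D ?_)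
          rw [normalizer_eq_top (H := D)]; trivial
        apply ctrl_of_not_centric P _ (hNPD.trans (normalizer_le_normalizer_sInf e D)) hPC
        · intro L hPL' hL H hHP g hg hgP
          refine (ind_of_subgroup (E := D) (sylIn_of_le P hPL') hD.1 ?_ hHP hg hgP).mono inf_le_right
            le_rfl
          intro T hT
          refine hprop L hL T _ ?_
          rw [hT]
          exact stronglyClosed_subgroupOf hD
        · -- the quotient by `O_p(G)`
          obtain ⟨Q, hQ⟩ : ∃ Q : Subgroup G, Q = pCore p G := ⟨_, rfl⟩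
          rw [← hQ] at hQn hQp hPC hQ1 hDQ ⊢
          obtain ⟨Pb, hPb⟩ : ∃ Pb : Sylow p (G ⧸ Q),
              Pb = P.mapSurjective (QuotientGroup.mk'_surjective Q) := ⟨_, rfl⟩
          have hPbc : (Pb : Subgroup (G ⧸ Q)) = (P : Subgroup G).map (QuotientGroup.mk' Q) := by
            rw [hPb, Sylow.coe_mapSurjective]
          obtain ⟨Db, hDb⟩ : ∃ Db : Subgroup (G ⧸ Q), Db = D.map (QuotientGroup.mk' Q) := ⟨_, rfl⟩
          have hDbs : Cfsg.IsStronglyClosed Db (Pb : Subgroup (G ⧸ Q)) := by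
            rw [hDb, hPbc]; exact stronglyClosed_map_quotient P hD Q
          have h1 := hquo Q hQn hQ1 Pb Db hDbs
          have hWb : (Pb : Subgroup (G ⧸ Q)) ≤
              normalizer ((sInf (maxAb e Db) : Subgroup (G ⧸ Q)) : Set (G ⧸ Q)) :=
            (le_normalizer_of_stronglyClosed hDbs).trans (normalizer_le_normalizer_sInf e Db)
          refine ⟨(normalizer ((sInf (maxAb e Db) : Subgroup (G ⧸ Q)) : Set (G ⧸ Q))).comap
            (QuotientGroup.mk' Q), ?_, ?_, ?_⟩
          · rw [← map_le_iff_le_comap, ← hPbc]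
            exact hWb
          · intro htop
            have h2 : normalizer ((sInf (maxAb e Db) : Subgroup (G ⧸ Q)) : Set (G ⧸ Q)) = ⊤ := by
              rw [eq_top_iff]
              intro x _
              obtain ⟨y, rfl⟩ := QuotientGroup.mk'_surjective Q x
              have : y ∈ (normalizer ((sInf (maxAb e Db) : Subgroup (G ⧸ Q)) : Set (G ⧸ Q))).comap
                (QuotientGroup.mk' Q) := by rw [htop]; trivial
              exact this
            have h3 : (sInf (maxAb e Db)).Normal := normalizer_eq_top_iff.mp h2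
            have h4 : sInf (maxAb e Db) ≤ pCore p (G ⧸ Q) :=
              Cfsg.Agent.Lib.Cores.le_pCore h3
                (Pb.isPGroup'.to_le ((sInf_maxAb_le e Db).trans hDbs.1))
            have h5 : pCore p (G ⧸ Q) = ⊥ := by
              subst hQ
              exact Cfsg.Agent.Lib.Cores.pCore_quotient_pCore p
            rw [h5, le_bot_iff] at h4
            have h6 : Db = ⊥ := by
              by_contra hne
              exact sInf_maxAb_ne_bot he (Pb.isPGroup'.to_le hDbs.1) hne h4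
            rw [hDb, Subgroup.map_eq_bot_iff, QuotientGroup.ker_mk'] at h6
            exact hDQ h6
          · intro H hHP g hg
            obtain ⟨mb, hmb, hmbh⟩ := h1 (H.map (QuotientGroup.mk' Q)) (QuotientGroup.mk' Q g)
              (by rw [hPbc]; exact map_mono hHP) (by
                rintro _ ⟨x, hx, rfl⟩
                rw [hPbc]
                exact ⟨g * x * g⁻¹, hg x hx, by simp⟩)
            obtain ⟨m, rfl⟩ := QuotientGroup.mk'_surjective Q mb
            refine ⟨m, hmb, fun h hh => ?_⟩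
            rw [← QuotientGroup.eq_one_iff, ← QuotientGroup.mk'_apply]
            have h5 := hmbh ((QuotientGroup.mk' Q) h) ⟨h, hh, rfl⟩
            rw [map_mul, map_inv, inv_mul_eq_one]
            simp only [map_mul, map_inv] at h5 ⊢
            exact h5.symm

/-- `Ctrl` for subgroups gives the printed control of strong fusion for all subsets. -/
theorem controlsStrongFusionOf_of_ctrl {G : Type*} [Group G] {P M : Subgroup G} (h : Ctrl P M)
    (A : Set G) (hA : A ⊆ P) : Cfsg.ControlsStrongFusionOf M P A := by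
  refine ⟨hA, fun g hg => ?_⟩
  obtain ⟨m, hm, hmh⟩ := h (closure A) g ((closure_le _).mpr hA) (by
    intro x hx
    have h1 : closure A ≤ P.comap (MulAut.conj g).toMonoidHom := by
      refine (closure_le _).mpr ?_
      intro a ha
      exact hg ⟨a, ha, rfl⟩
    exact h1 hx)
  exact ⟨m, hm, fun a ha => (hmh a (subset_closure ha)).symm⟩

end Cfsg.Agent.H280.StrongFusion
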