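import Cfsg.Agent.H280.HNDat
import Cfsg.Agent.H280.HNArith
import Cfsg.Agent.H408.Pron.Defs

/-!
# Pronormality of the subgroups of odd index of HN (helper280)

`po_hn_of` : from the classification of the finite simple groups.
-/

set_option autoImplicit false

namespace Cfsg.Agent.H280.HNPron

open Subgroup Cfsg Cfsg.Agent.H280.HNEngine Cfsg.Agent.H280.HNGroup Cfsg.Agent.H280.HNDat
open Cfsg.Agent.HN.XWords Cfsg.Agent.KFacts.HN

/-- `|K|` divides `|Aut L|` -/
theorem card_dvd_aut {G : Type*} [Group G] [Finite G] {K L : Subgroup G} (hLK : L ≤ K) (hn : Nr K L)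
    (hc : ∀ x ∈ K, (∀ l ∈ L, x * l = l * x) → x = 1) : Nat.card K ∣ Nat.card (MulAut L) := by
  have hnorm : (L.subgroupOf K).Normal := ⟨fun x hx g => by
    rw [mem_subgroupOf] at hx ⊢
    exact hn g g.2 x hx⟩
  have hinj : Function.Injective (MulAut.conjNormal : K →* MulAut ↥(L.subgroupOf K)) := by
    rw [injective_iff_map_eq_one]
    intro x hx
    apply Subtype.ext
    refine hc x x.2 fun l hl => ?_
    have h2 := congrArg (fun a : MulAut ↥(L.subgroupOf K) =>
      (((a ⟨⟨l, hLK hl⟩, mem_subgroupOf.2 hl⟩ : ↥(L.subgroupOf K)) : K) : G)) hx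
    simp only [MulAut.conjNormal_apply, MulAut.one_apply] at h2
    have h3 : (x : G) * l * (x : G)⁻¹ = l := h2
    rwa [mul_inv_eq_iff_eq_mul] at h3
  have h1 : Nat.card (MulAut ↥(L.subgroupOf K)) = Nat.card (MulAut L) :=
    Nat.card_congr (MulAut.congr (Subgroup.subgroupOfEquivOfLe hLK)).toEquiv
  rw [← h1, Nat.card_congr (MonoidHom.ofInjective hinj).toEquiv]
  exact Subgroup.card_subgroup_dvd_card _

/-- **The almost simple case** -/
theorem halm (hk : ∀ (L : Type) [Group L] [Finite L] [IsSimpleGroup L], IsKnownSimple' L)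
    {K L : Subgroup Cfsg.Spor.HN} (hK : SG ≤ K) (hLK : L ≤ K) (hn : Nr K L) (hs : IsSimpleGroup L)
    (hna : ∃ a ∈ L, ∃ b ∈ L, a * b ≠ b * a) (hc : ∀ x ∈ K, (∀ l ∈ L, x * l = l * x) → x = 1) : ww ∈ K := by
  have h1 := card_dvd_aut hLK hn hc
  have h2 : Nat.card SG ∣ Nat.card K := Subgroup.card_dvd_of_le hK
  rw [card_SG] at h2
  have h3 : Nat.card L ∣ 273030912000000 := by
    rw [← Classes.card_HN]
    exact Subgroup.card_subgroup_dvd_card L
  have hna' : ¬ ∀ a b : L, a * b = b * a := by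
    intro h
    obtain ⟨a, ha, b, hb, hab⟩ := hna
    exact hab (congrArg Subtype.val (h ⟨a, ha⟩ ⟨b, hb⟩))
  rcases HNArith.arith (hk L) hna' h3 with h4 | h4
  · have h5 : L = ⊤ := by
      apply Subgroup.eq_top_of_card_eq
      rw [h4, Classes.card_HN]
    apply hLK
    rw [h5]
    exact mem_top _
  · exfalso
    apply h4
    have h5 : (2 : ℕ) ^ 14 = 16384 := by norm_num
    rw [← h5]
    exact h2.trans h1

/-- **HN** -/
theorem po_HN_of (hk : ∀ (L : Type) [Group L] [Finite L] [IsSimpleGroup L], IsKnownSimple' L) :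
    H408.Pron.PO Cfsg.Spor.HN := by
  refine H408.Pron.PO.of_one SY ww normalizer_le ?_
  refine dat.main (fun K hK hKz hw => hcent hK hKz hw) ?_
  intro K L hK hLK hn hs hna hc
  exact halm hk hK hLK hn hs hna hc

theorem po_hn_of (hk : ∀ (L : Type) [Group L] [Finite L] [IsSimpleGroup L], IsKnownSimple' L)
    {K : Type*} [Group K] (h : Cfsg.Spor.IsoHN K) : H408.Pron.PO K := by
  obtain ⟨e⟩ := h
  exact (po_HN_of hk).congr e.symm

end Cfsg.Agent.H280.HNPron
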