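import Cfsg.Agent.H280.HNGroup

/-!
# HN: the configuration of `HNEngine` (helper280)
-/

set_option autoImplicit false
set_option maxRecDepth 4000

namespace Cfsg.Agent.H280.HNDat

open Cfsg.Agent.HN Cfsg.Agent.HN.Pres Cfsg.Agent.HN.P1408 Cfsg.Agent.HN.H0Basic Cfsg.Agent.HN.XMat
open Cfsg.Agent.HN.XStruct Cfsg.Agent.HN.XWords Cfsg.Agent.HN.XQuot Cfsg.Agent.HN.XInst
open Cfsg.Agent.KFacts.HN Cfsg.Agent.H280.HNData Cfsg.Agent.H280.HNGroup Cfsg.Agent.H280.HNEngine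
open Cfsg.Agent.KFacts.HN.CentTwoHN (z' n)

theorem chkZ : LZ.all (fun P => CF.testBit (Nat.xor 64 (app P 64))) = true := by decide +kernel

theorem LZ_lt {P : ℕ} (h : P ∈ LZ) : P < 2 ^ 64 := by
  have : LZ.all (fun P => Nat.blt P (2 ^ 64)) = true := by decide +kernel
  have h1 := List.all_eq_true.1 this P h
  rwa [Nat.blt_eq] at h1

/-- a central element of `S/R` moves `Q 6` by an element of order 4 -/
theorem central_false {E : Subgroup Cfsg.Spor.HN} (hE : Nr SG E) (h2 : ∀ e ∈ E, e * e = 1) {v : Cfsg.Spor.HN}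
    (hv : v ∈ E) {P : ℕ} (hP : P ∈ LZ) (hA : AM v P) : False := by
  obtain ⟨c, hc⟩ := hA.conj 64
  have hr : r Q 64 ∈ RS := r_mem_RS (by norm_num)
  have ht : (r Q 64)⁻¹ * v⁻¹ * (r Q 64)⁻¹⁻¹ * v ∈ E :=
    mul_mem (hE _ (RS_le_SG (inv_mem hr)) _ (inv_mem hv)) hv
  have h3 : (r Q 64)⁻¹ * v⁻¹ * (r Q 64)⁻¹⁻¹ * v = (r Q 64)⁻¹ * (r Q (app P 64) * sgn0 c) := by
    rw [← hc]; group
  have h4 : π W0 (r Q (Nat.xor 64 (app P 64))) = π W0 ((r Q 64)⁻¹ * (r Q (app P 64) * sgn0 c)) := by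
    have h5 := comm_mul (comm_r (app P 64)) (comm_sgn c)
    rw [π_mul (comm_inv (comm_r 64)) h5, π_inv (comm_r 64), π_r_sgn, π_r, π_r, hyp.toBas.r_inv]
    exact hyp.toBas.r_xor 64 (app P 64)
  obtain ⟨b, hb⟩ := eq_of_π (r_mem_PP _) (PP.mul_mem (PP.inv_mem (r_mem_PP 64))
    (PP.mul_mem (r_mem_PP _) (sgn_mem_PP c))) h4
  have h5 : CF.testBit (Nat.xor 64 (app P 64)) = true := List.all_eq_true.1 chkZ P hP
  have h6 := kind_F (m := Nat.xor 64 (app P 64)) (Nat.xor_lt_two_pow (n := 8) (by norm_num) (app_lt _ _)) h5 b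
  have h7 := h2 _ ht
  rw [h3, hb, h6] at h7
  exact W0_ne h7

/-- elementary abelian normal subgroups of `S` are contained in `R` -/
theorem ab {E : Subgroup Cfsg.Spor.HN} (hES : E ≤ SG) (hE : Nr SG E) (h2 : ∀ e ∈ E, e * e = 1) : E ≤ RS := by
  intro v hv
  obtain ⟨P, hP, hA⟩ := hES hv
  have h1 := List.all_eq_true.1 chkComm P hP
  rw [Bool.or_eq_true, Bool.or_eq_true] at h1
  rcases h1 with h1 | h1 | h1
  · rw [Nat.eq_of_beq_eq_true h1] at hA
    exact mem_R_of_AM hA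
  · exact (central_false hE h2 hv (mem_spec.1 h1) hA).elim
  · exfalso
    obtain ⟨B, hB, h3⟩ := List.any_eq_true.1 h1
    obtain ⟨C, hC, h4⟩ := List.any_eq_true.1 h3
    have h5 := Nat.eq_of_beq_eq_true h4
    obtain ⟨s, hs, hsB⟩ := exists_SG hB
    obtain ⟨P', hP', hp1, _⟩ := L32_inv hP
    obtain ⟨B', hB', hb1, _⟩ := L32_inv hB
    have hy : AM (v⁻¹ * (s⁻¹ * (v * s))) C := by
      have h6 := (hA.inv (L32_lt hP') hp1).mul ((hsB.inv (L32_lt hB') hb1).mul (hA.mul hsB))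
      rw [h5, ← mul_assoc' B', ← mul_assoc' B', hb1, MI_mul (L32_lt hP), ← mul_assoc', hp1, MI_mul (LZ_lt hC)] at h6
      exact h6
    have hyE : v⁻¹ * (s⁻¹ * (v * s)) ∈ E := by
      have h7 := mul_mem (inv_mem hv) (hE s⁻¹ (inv_mem hs) v hv)
      have e : v⁻¹ * (s⁻¹ * v * s⁻¹⁻¹) = v⁻¹ * (s⁻¹ * (v * s)) := by group
      rwa [e] at h7
    exact central_false hE h2 hyE hC hy

theorem z'_ne1 : z' ≠ 1 := by
  intro h
  have h1 : r Q 3 * sgn0 false = r Q 0 * sgn0 false := by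
    rw [Bas.r_zero]
    have : r Q 3 = 1 := h
    rw [this]
  have h2 := (r_sgn_inj (by norm_num) (by norm_num) h1).1
  omega

theorem uS {s : Cfsg.Spor.HN} (hs : s ∈ SG) : s * z' * s⁻¹ = z' ∨ s * z' * s⁻¹ = z' * W0 := by
  obtain ⟨P, hP, hA⟩ := inv_mem hs
  obtain ⟨c, hc⟩ := hA.conj 3
  rw [inv_inv] at hc
  have h00 : Nat.beq (app P 3) 3 = true := List.all_eq_true.1 chkS3 P hP
  rw [Nat.eq_of_beq_eq_true h00] at hc
  cases c
  · left; exact hc.trans (mul_one _)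
  · right; exact hc

theorem uniq {x : Cfsg.Spor.HN} (hx : x ∈ RS) (h : ∀ s ∈ SG, s * x * s⁻¹ = x ∨ s * x * s⁻¹ = x * W0) :
    x = 1 ∨ x = W0 ∨ x = z' ∨ x = z' * W0 := by
  obtain ⟨m, hm, b, rfl⟩ := mem_RS.1 hx
  have hfix : ∀ P ∈ L32, app P m = m := by
    intro P hP
    obtain ⟨s, hs, hA⟩ := exists_SG hP
    obtain ⟨c, hc⟩ := hA.conj m
    have h1 := h s⁻¹ (inv_mem hs)
    rw [inv_inv] at h1
    have h2 : s⁻¹ * (r Q m * sgn0 b) * s = r Q (app P m) * sgn0 (c ^^ b) := by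
      have h3 := csg b s (mem_PP.1 hA.1)
      calc s⁻¹ * (r Q m * sgn0 b) * s = s⁻¹ * r Q m * (sgn0 b * s) := by group
        _ = s⁻¹ * r Q m * (s * sgn0 b) := by rw [h3]
        _ = (s⁻¹ * r Q m * s) * sgn0 b := by group
        _ = r Q (app P m) * (sgn0 c * sgn0 b) := by rw [hc, mul_assoc]
        _ = _ := by rw [sgn0_mul]
    rw [h2] at h1
    have h4 : r Q m * sgn0 b * W0 = r Q m * sgn0 (b ^^ true) := by
      rw [← sgn0_mul, mul_assoc]; rfl
    rw [h4] at h1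
    rcases h1 with h1 | h1
    · exact (r_sgn_inj (app_lt _ _) hm h1).1
    · exact (r_sgn_inj (app_lt _ _) hm h1).1
  have h1 := List.all_eq_true.1 chkFix m (List.mem_range.2 hm)
  rw [Bool.or_eq_true, Bool.or_eq_true] at h1
  rcases h1 with h1 | h1 | h1
  · rw [Nat.eq_of_beq_eq_true h1, Bas.r_zero]
    cases b
    · left; exact mul_one _
    · right; left; exact one_mul _
  · rw [Nat.eq_of_beq_eq_true h1]
    cases b
    · right; right; left; exact mul_one _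
    · right; right; right; rfl
  · exfalso
    obtain ⟨P, hP, h2⟩ := List.any_eq_true.1 h1
    rw [hfix P hP, Nat.beq_refl] at h2
    exact absurd h2 (by decide)

theorem nz : n * W0 * n⁻¹ = z' := by rw [CentTwoHN.n_W0, mul_inv_cancel_right]

theorem nR : n⁻¹ * W0 * n ∈ RS := by
  have h1 := CentTwoHN.n_z'
  have h2 := CentTwoHN.n_W0
  have h3 := CentTwoHN.z'_comm
  have h4 : n⁻¹ * W0 * n = W0 * z' := by
    have h5 : n * (W0 * z') = W0 * n := by
      calc n * (W0 * z') = (n * W0) * z' := by group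
        _ = z' * (n * z') := by rw [h2]; group
        _ = (z' * W0) * z' * n := by rw [h1]; group
        _ = W0 * (z' * z') * n := by rw [← h3]; group
        _ = W0 * n := by rw [CentTwoHN.z'_sq, mul_one]
    rw [mul_assoc, ← h5]; group
  rw [h4]
  exact mul_mem W0_mem_RS z'_mem

/-- **the configuration** -/
theorem dat : Dat SY RS W0 z' n ww where
  large := large
  RS := RS_le_SG
  Sz s hs := mem_PP.1 (SG_le hs)
  ab E h1 h2 h3 := ab h1 h2 h3
  uR := z'_mem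
  uu := CentTwoHN.z'_sq
  u1 := z'_ne1
  uz h := CentTwoHN.z'_ne h.symm
  uS s hs := uS hs
  uniq x hx h := uniq hx h
  nz := nz
  nR := nR
  wS s hs := ww_S hs
  wu := ww_z'
  wz := ww_W0
  w3 := RS_le_SG ww3
  cV x h1 h2 := mask_three (mem_PP.2 h1) (Or.inl (by rw [mul_assoc, ← h2]; group))

/-- overgroups of `S` in `C(W0)` -/
theorem hcent {K : Subgroup Cfsg.Spor.HN} (hK : SG ≤ K) (hKz : ∀ x ∈ K, x * W0 = W0 * x) (hw : ww ∉ K) :
    ∀ x ∈ K, ww * x * ww⁻¹ ∈ K := by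
  intro x hx
  obtain ⟨s, hs, c, hc, y, hy, he⟩ := cover (mem_PP.2 (hKz x hx))
  have hyK : y ∈ K := by
    have h1 := mul_mem (inv_mem (hK hs)) hx
    rw [he] at h1
    have e : s⁻¹ * (s * y) = y := by group
    rwa [e] at h1
  have e : ww * x * ww⁻¹ = (ww * s * ww⁻¹) * (ww * y * ww⁻¹ * y⁻¹) * y := by rw [he]; group
  rw [e]
  refine mul_mem (mul_mem (hK (ww_S hs)) (hK ?_)) hyK
  obtain ⟨p1, p2, p3, p4, p5⟩ := chkPa
  have h1 := List.all_eq_true.1 chkCR c hc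
  rw [Bool.or_eq_true, Bool.or_eq_true, Bool.or_eq_true] at h1
  rcases h1 with h1 | h1 | h1 | h1
  · rw [Nat.eq_of_beq_eq_true h1] at hy
    have h2 := mem_R_of_AM hy
    exact mul_mem (ww_S (RS_le_SG h2)) (inv_mem (RS_le_SG h2))
  · rw [Nat.eq_of_beq_eq_true h1] at hy
    have h2 : AM y⁻¹ Pa2 := hy.inv (by decide +kernel) p3
    exact ⟨_, mem_spec.1 p4, ((ww_AM.mul hy).mul ww_inv).mul h2⟩
  · rw [Nat.eq_of_beq_eq_true h1] at hy
    have h2 : AM y⁻¹ Pa := hy.inv (by decide +kernel) p2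
    exact ⟨_, mem_spec.1 p5, ((ww_AM.mul hy).mul ww_inv).mul h2⟩
  · exfalso
    apply hw
    obtain ⟨t, ht, h2⟩ := List.any_eq_true.1 h1
    have h3 := Nat.eq_of_beq_eq_true h2
    have h4 := List.all_eq_true.1 chkCT t ht
    rw [Bool.and_eq_true, List.all_eq_true] at h4
    have key : ∀ l : List ℕ, (∀ s ∈ l, s ∈ L32) → ∃ y' ∈ K, AM y' (pr c l) := by
      intro l
      induction l with
      | nil => intro _; exact ⟨1, one_mem _, AM_one⟩
      | cons s l ih =>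
        intro hl
        obtain ⟨y', hy', hA⟩ := ih fun s hs => hl s (List.mem_cons_of_mem _ hs)
        obtain ⟨s', hs', hsA⟩ := exists_SG (hl s List.mem_cons_self)
        exact ⟨s' * (y * y'), mul_mem (hK hs') (mul_mem hyK hy'), hsA.mul (hy.mul hA)⟩
    obtain ⟨y', hy', hA⟩ := key t.2 fun s hs => mem_spec.1 (h4.1 s hs)
    rw [← h3, Nat.eq_of_beq_eq_true h4.2] at hA
    have h5 : y' * ww⁻¹ ∈ RS := by
      apply mem_R_of_AM
      have h := hA.mul ww_inv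
      rwa [chkPw.2.2.1] at h
    have h6 := mul_mem (inv_mem (hK (RS_le_SG h5))) hy'
    have e : (y' * ww⁻¹)⁻¹ * y' = ww := by group
    rwa [e] at h6

/-- the normaliser of the Sylow 2-subgroup -/
theorem normalizer_le : Subgroup.normalizer ((SY : Subgroup Cfsg.Spor.HN) : Set Cfsg.Spor.HN) ≤
    (SY : Subgroup Cfsg.Spor.HN) ⊔ Subgroup.zpowers ww := by
  intro g hg
  have hg1 : ∀ s ∈ SG, g⁻¹ * s * g ∈ SG := by
    intro s hs
    have h := (Subgroup.mem_normalizer_iff.1 (inv_mem hg) s).1 hs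
    rwa [inv_inv] at h
  have hg2 : ∀ s ∈ SG, g * s * g⁻¹ ∈ SG := fun s hs => (Subgroup.mem_normalizer_iff.1 hg s).1 hs
  have h1 : g * W0 * g⁻¹ = 1 ∨ g * W0 * g⁻¹ = W0 := by
    apply dat.eq_of_central
    intro s hs
    have h2 := mem_PP.1 (SG_le (hg1 s hs))
    calc g * W0 * g⁻¹ * s = g * (W0 * (g⁻¹ * s * g)) * g⁻¹ := by group
      _ = g * ((g⁻¹ * s * g) * W0) * g⁻¹ := by rw [h2]
      _ = _ := by group
  have h2 : g * W0 * g⁻¹ = W0 := by
    refine h1.resolve_left fun h => W0_ne ?_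
    calc W0 = g⁻¹ * (g * W0 * g⁻¹) * g := by group
      _ = 1 := by rw [h]; group
  have hgP : g ∈ PP := by
    rw [mem_PP]
    calc g * W0 = g * W0 * g⁻¹ * g := by group
      _ = W0 * g := by rw [h2]
  have h3 : g⁻¹ * z' * g ∈ RS := by
    have h := conj_RS (inv_mem hgP) z'_mem
    rwa [inv_inv] at h
  have h4 := uniq h3 fun s hs => by
    have h5 := uS (hg2 s hs)
    have e : s * (g⁻¹ * z' * g) * s⁻¹ = g⁻¹ * (g * s * g⁻¹ * z' * (g * s * g⁻¹)⁻¹) * g := by group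
    rw [e]
    rcases h5 with h5 | h5
    · left; rw [h5]
    · right
      rw [h5]
      have h6 := mem_PP.1 hgP
      calc g⁻¹ * (z' * W0) * g = g⁻¹ * z' * (W0 * g) := by group
        _ = g⁻¹ * z' * g * W0 := by rw [← h6]; group
  have h5 : g⁻¹ * z' * g = z' ∨ g⁻¹ * z' * g = z' * W0 := by
    rcases h4 with h | h | h | h
    · exfalso
      apply z'_ne1
      calc z' = g * (g⁻¹ * z' * g) * g⁻¹ := by group
        _ = 1 := by rw [h]; group
    · exfalso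
      apply CentTwoHN.z'_ne
      calc W0 = g * W0 * g⁻¹ := h2.symm
        _ = g * (g⁻¹ * z' * g) * g⁻¹ := by rw [h]
        _ = z' := by group
    · exact Or.inl h
    · exact Or.inr h
  obtain ⟨s, hs, h6⟩ := mask_three hgP h5
  have hS : s ∈ (SY : Subgroup Cfsg.Spor.HN) ⊔ Subgroup.zpowers ww := Subgroup.mem_sup_left hs
  have hW : ww ∈ (SY : Subgroup Cfsg.Spor.HN) ⊔ Subgroup.zpowers ww :=
    Subgroup.mem_sup_right (Subgroup.mem_zpowers ww)
  rcases h6 with rfl | rfl | rfl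
  · exact hS
  · exact mul_mem hS hW
  · exact mul_mem hS (mul_mem hW hW)

end Cfsg.Agent.H280.HNDat
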