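import Mathlib
import Cfsg.Agent.Co2Type.Quad
import Cfsg.Agent.Lib.NormalAbelian

/-!
# Overgroups of a Sylow 2-subgroup in groups with a large extraspecial subgroup, `|N(S) : S| = 3` (helper280)

`Dat S R z u n w` : `S` a Sylow 2-subgroup with centre `⟨z⟩`, `R = O_2(C(z))` large extraspecial, `⟨z, u⟩` the unique normal
four-subgroup of `S`, `n` moves `z` to `u`, `w ∈ N(S)` centralises `⟨z, u⟩`, `C(⟨z, u⟩) ≤ S⟨w⟩`.
`Dat.main` : `w` normalises every overgroup of `S` which does not contain it.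
-/

set_option autoImplicit false
set_option linter.unusedSectionVars false

namespace Cfsg.Agent.H280.HNEngine

open Subgroup Cfsg.Agent.Co2Type.Quad

variable {G : Type*} [Group G]

/-- elementwise normality -/
def Nr (A B : Subgroup G) : Prop := ∀ a ∈ A, ∀ b ∈ B, a * b * a⁻¹ ∈ B

/-- the configuration -/
structure Dat (S : Sylow 2 G) (R : Subgroup G) (z u n w : G) : Prop where
  large : Large R z
  RS : R ≤ (S : Subgroup G)
  Sz : ∀ s ∈ (S : Subgroup G), s * z = z * s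
  ab : ∀ E : Subgroup G, E ≤ (S : Subgroup G) → Nr (S : Subgroup G) E → (∀ e ∈ E, e * e = 1) → E ≤ R
  uR : u ∈ R
  uu : u * u = 1
  u1 : u ≠ 1
  uz : u ≠ z
  uS : ∀ s ∈ (S : Subgroup G), s * u * s⁻¹ = u ∨ s * u * s⁻¹ = u * z
  uniq : ∀ x ∈ R, (∀ s ∈ (S : Subgroup G), s * x * s⁻¹ = x ∨ s * x * s⁻¹ = x * z) →
    x = 1 ∨ x = z ∨ x = u ∨ x = u * z
  nz : n * z * n⁻¹ = u
  nR : n⁻¹ * z * n ∈ R
  wS : ∀ s ∈ (S : Subgroup G), w * s * w⁻¹ ∈ (S : Subgroup G)
  wu : w * u = u * w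
  wz : w * z = z * w
  w3 : w * w * w ∈ (S : Subgroup G)
  cV : ∀ x, x * z = z * x → x * u = u * x → ∃ s ∈ (S : Subgroup G), x = s ∨ x = s * w ∨ x = s * (w * w)

variable {S : Sylow 2 G} {R : Subgroup G} {z u n w : G}

/-! ### 2-groups -/

section

variable [Finite G]

/-- a 2-subgroup normalised by `S` is contained in `S` -/
theorem le_of_nr {O : Subgroup G} (h2 : IsPGroup 2 O) (hn : Nr (S : Subgroup G) O) : O ≤ (S : Subgroup G) := by
  have h1 : (S : Subgroup G) ≤ normalizer (O : Set G) := by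
    intro s hs
    rw [mem_normalizer_iff]
    intro x
    refine ⟨fun hx => hn s hs x hx, fun hx => ?_⟩
    have h3 := hn s⁻¹ (inv_mem hs) _ hx
    have e : s⁻¹ * (s * x * s⁻¹) * s⁻¹⁻¹ = x := by group
    rwa [e] at h3
  have h3 : IsPGroup 2 ↥((S : Subgroup G) ⊔ O) := S.2.to_sup_of_normal_right' h2 h1
  have h4 := S.is_maximal' h3 le_sup_left
  calc O ≤ (S : Subgroup G) ⊔ O := le_sup_right
    _ = (S : Subgroup G) := h4

theorem isPGroup_of_sq {E : Subgroup G} (h : ∀ e ∈ E, e * e = 1) : IsPGroup 2 E := by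
  intro e
  refine ⟨1, ?_⟩
  rw [pow_one, pow_two]
  exact Subtype.ext (h e e.2)

theorem eq_one_of_odd {X T : Subgroup G} (hX : Odd (Nat.card X)) (hT : IsPGroup 2 T) {x : G} (h1 : x ∈ X)
    (h2 : x ∈ T) : x = 1 := by
  obtain ⟨k, hk⟩ := hT ⟨x, h2⟩
  have h3 : x ^ 2 ^ k = 1 := congrArg Subtype.val hk
  have h4 : orderOf x ∣ Nat.card X := by
    have := orderOf_dvd_natCard (⟨x, h1⟩ : X)
    rwa [Subgroup.orderOf_mk] at this
  have h5 : orderOf x ∣ 2 ^ k := orderOf_dvd_of_pow_eq_one h3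
  have h6 : Nat.Coprime (2 ^ k) (Nat.card X) := Nat.Coprime.pow_left _ (Nat.coprime_two_left.2 hX)
  have h7 := Nat.eq_one_of_dvd_coprimes h6 h5 h4
  exact orderOf_eq_one_iff.1 h7

/-- an involution of `K` is conjugate in `K` to an element of `S` -/
theorem exists_conj {K : Subgroup G} (hK : (S : Subgroup G) ≤ K) {t : G} (ht : t ∈ K) (h2 : t * t = 1) :
    ∃ g ∈ K, g * t * g⁻¹ ∈ (S : Subgroup G) := by
  have : Fact (Nat.Prime 2) := ⟨Nat.prime_two⟩
  have h1 : IsPGroup 2 (zpowers (⟨t, ht⟩ : K)) := by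
    refine IsPGroup.of_card_dvd_pow (n := 1) ?_
    rw [Nat.card_zpowers, pow_one]
    exact orderOf_dvd_of_pow_eq_one (by rw [pow_two]; exact Subtype.ext h2)
  obtain ⟨P, hP⟩ := h1.exists_le_sylow
  have hr : (S : Subgroup G) ≤ K.subtype.range := by rwa [Subgroup.range_subtype]
  obtain ⟨g, hg⟩ := MulAction.exists_smul_eq K P (S.comapOfInjective K.subtype K.subtype_injective hr)
  refine ⟨g, g.2, ?_⟩
  have h3 : (⟨t, ht⟩ : K) ∈ P := hP (mem_zpowers _)
  have h4 : g * ⟨t, ht⟩ * g⁻¹ ∈ g • P := by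
    change _ ∈ ((g • P : Sylow 2 K) : Subgroup K)
    rw [Sylow.coe_subgroup_smul]
    exact ⟨⟨t, ht⟩, h3, rfl⟩
  rw [hg] at h4
  exact h4

end


theorem exists_central {P : Type*} [Group P] [Group.IsNilpotent P] (N : Subgroup P) [N.Normal] (h : N ≠ ⊥) :
    ∃ x ∈ N, x ≠ 1 ∧ ∀ y, y * x = x * y := by
  have h2 := Cfsg.Agent.Lib.NormalAbelian.normal_inf_center_ne_bot N h
  rcases Subgroup.bot_or_exists_ne_one (N ⊓ center P) with h3 | ⟨x, hx, hx1⟩
  · exact absurd h3 h2
  · exact ⟨x, hx.1, hx1, fun y => mem_center_iff.1 hx.2 y⟩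

namespace Dat

section

variable [Finite G] (D : Dat S R z u n w)

include D

theorem R2 : IsPGroup 2 R := by
  intro r
  obtain ⟨k, hk⟩ := S.2 ⟨r, D.RS r.2⟩
  refine ⟨k, Subtype.ext ?_⟩
  have h := congrArg Subtype.val hk
  rw [SubmonoidClass.coe_pow] at h ⊢
  exact h

theorem eq_of_central {e : G} (h : ∀ s ∈ (S : Subgroup G), e * s = s * e) : e = 1 ∨ e = z := by
  have h1 : e ∈ R := D.large.self e (h z (D.RS D.large.z_mem)) fun r hr => h r (D.RS hr)
  exact D.large.cent e h1 fun r hr => h r (D.RS hr)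

/-- a nontrivial normal subgroup of `S` contains `z` -/
theorem z_mem_of {E : Subgroup G} (hE : E ≤ (S : Subgroup G)) (hn : Nr (S : Subgroup G) E) (h1 : E ≠ ⊥) : z ∈ E := by
  have : Fact (Nat.Prime 2) := ⟨Nat.prime_two⟩
  have hnil : Group.IsNilpotent (S : Subgroup G) := S.2.isNilpotent
  have hnorm : (E.subgroupOf (S : Subgroup G)).Normal := ⟨fun x hx s => by
    rw [mem_subgroupOf] at hx ⊢
    exact hn s s.2 x hx⟩
  have hne : E.subgroupOf (S : Subgroup G) ≠ ⊥ := by
    intro h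
    apply h1
    rw [eq_bot_iff]
    intro x hx
    have h2 : (⟨x, hE hx⟩ : (S : Subgroup G)) ∈ E.subgroupOf (S : Subgroup G) := mem_subgroupOf.mpr hx
    rw [h, mem_bot] at h2
    exact mem_bot.mpr (congrArg Subtype.val h2)
  obtain ⟨x, hx, hx1, hc⟩ := exists_central (E.subgroupOf (S : Subgroup G)) hne
  rcases D.eq_of_central (e := x) (fun s hs => (congrArg Subtype.val (hc ⟨s, hs⟩)).symm) with h | h
  · exact absurd (Subtype.ext h) hx1
  · rw [← h]; exact hx

theorem z_mem : z ∈ (S : Subgroup G) := D.RS D.large.z_mem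

/-- a normal subgroup of `S` larger than `⟨z⟩` -/
theorem exists_mod {V : Subgroup G} (hV : V ≤ (S : Subgroup G)) (hn : Nr (S : Subgroup G) V) {v : G} (hv : v ∈ V)
    (h1 : v ≠ 1) (h2 : v ≠ z) : ∃ x ∈ V, x ≠ 1 ∧ x ≠ z ∧
      ∀ s ∈ (S : Subgroup G), s * x * s⁻¹ = x ∨ s * x * s⁻¹ = x * z := by
  have : Fact (Nat.Prime 2) := ⟨Nat.prime_two⟩
  have hnil : Group.IsNilpotent (S : Subgroup G) := S.2.isNilpotent
  obtain ⟨zS, hzS⟩ : ∃ a : (S : Subgroup G), (a : G) = z := ⟨⟨z, D.z_mem⟩, rfl⟩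
  have hzz : ∀ a : (S : Subgroup G), a ∈ zpowers zS ↔ (a : G) = 1 ∨ (a : G) = z := by
    intro a
    constructor
    · intro ha
      have h3 : (a : G) ∈ zpowers z := by
        obtain ⟨k, hk⟩ := mem_zpowers_iff.1 ha
        exact mem_zpowers_iff.2 ⟨k, by rw [← hk, ← hzS]; rfl⟩
      obtain ⟨k, hk⟩ := mem_zpowers_iff.1 h3
      rcases Int.even_or_odd' k with ⟨j, rfl | rfl⟩
      · left
        rw [← hk, zpow_mul, zpow_ofNat, pow_two, D.large.z_sq, one_zpow]
      · right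
        rw [← hk, zpow_add, zpow_mul, zpow_ofNat, pow_two, D.large.z_sq, one_zpow, one_mul, zpow_one]
    · rintro (h | h)
      · have : a = 1 := Subtype.ext h
        rw [this]; exact one_mem _
      · have : a = zS := Subtype.ext (h.trans hzS.symm)
        rw [this]; exact mem_zpowers _
  have hZn : (zpowers zS).Normal := ⟨fun x hx s => by
    rw [hzz] at hx ⊢
    rcases hx with h | h
    · left
      change (s : G) * x * (s : G)⁻¹ = 1
      rw [h]; group
    · right
      change (s : G) * x * (s : G)⁻¹ = z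
      rw [h, D.Sz s s.2]; group⟩
  have hnorm : (V.subgroupOf (S : Subgroup G)).Normal := ⟨fun x hx s => by
    rw [mem_subgroupOf] at hx ⊢
    exact hn s s.2 x hx⟩
  have hN := hnorm.map (QuotientGroup.mk' (zpowers zS)) (QuotientGroup.mk'_surjective _)
  have hnil' : Group.IsNilpotent ((S : Subgroup G) ⧸ zpowers zS) := inferInstance
  obtain ⟨x, hx, hx1, hc⟩ := exists_central ((V.subgroupOf (S : Subgroup G)).map (QuotientGroup.mk' (zpowers zS))) (by
    intro h
    have h3 : QuotientGroup.mk' (zpowers zS) ⟨v, hV hv⟩ ∈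
      (V.subgroupOf (S : Subgroup G)).map (QuotientGroup.mk' (zpowers zS)) := ⟨_, mem_subgroupOf.2 hv, rfl⟩
    rw [h, mem_bot] at h3
    have h4 := (QuotientGroup.eq_one_iff _).1 h3
    rcases (hzz _).1 h4 with h5 | h5
    · exact h1 h5
    · exact h2 h5)
  obtain ⟨y, hy, rfl⟩ := hx
  refine ⟨y, mem_subgroupOf.1 hy, ?_, ?_, ?_⟩
  · intro h
    apply hx1
    exact (QuotientGroup.eq_one_iff y).2 ((hzz y).2 (Or.inl h))
  · intro h
    apply hx1
    exact (QuotientGroup.eq_one_iff y).2 ((hzz y).2 (Or.inr h))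
  · intro s hs
    have h3 := hc (QuotientGroup.mk' (zpowers zS) ⟨s, hs⟩)
    have h4 : QuotientGroup.mk' (zpowers zS) (y⁻¹ * (⟨s, hs⟩ * y * (⟨s, hs⟩)⁻¹)) = 1 := by
      rw [map_mul, map_mul, map_mul, map_inv, map_inv, h3]
      group
    have h5 := (hzz _).1 ((QuotientGroup.eq_one_iff _).1 h4)
    have e : (((y⁻¹ * (⟨s, hs⟩ * y * (⟨s, hs⟩)⁻¹) : (S : Subgroup G)) : G)) = (y : G)⁻¹ * (s * y * s⁻¹) := rfl
    rw [e] at h5
    rcases h5 with h5 | h5
    · left
      rw [inv_mul_eq_one] at h5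
      exact h5.symm
    · right
      rw [inv_mul_eq_iff_eq_mul] at h5
      exact h5

/-- elements of `R` outside `⟨z⟩` are moved by `R` -/
theorem exists_r {v : G} (hv : v ∈ R) (h1 : v ≠ 1) (h2 : v ≠ z) : ∃ r ∈ R, r * v * r⁻¹ = v * z := by
  by_contra h
  push Not at h
  rcases D.large.cent v hv (fun y hy => by
    rcases D.large.comm y hy v hv with h3 | h3
    · exact h3.symm
    · exfalso
      apply h y hy
      have h4 : z * y⁻¹ = y⁻¹ * z := (D.large.comm_z y⁻¹ (inv_mem hy)).symm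
      calc y * v * y⁻¹ = v * y * (z * y⁻¹) := by rw [h3]; group
        _ = v * z := by rw [h4]; group) with h3 | h3
  · exact h1 h3
  · exact h2 h3

theorem Rz {r : G} (hr : r ∈ R) : r * z = z * r := D.large.comm_z r hr

theorem RK {K : Subgroup G} (hK : (S : Subgroup G) ≤ K) {r : G} (hr : r ∈ R) : r ∈ K := hK (D.RS hr)

theorem zz : z * z = 1 := D.large.z_sq

/-! ### a normal elementary abelian subgroup generated by conjugates of `z` -/

/-- `V = ⟨z^K⟩ ≤ R`: the conjugates of `z` are the elements `≠ 1` of `V` -/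
theorem conj_all {K V : Subgroup G} (hK : (S : Subgroup G) ≤ K) (hVR : V ≤ R) (hV2 : ∀ e ∈ V, e * e = 1)
    (hVn : Nr K V)
    (hgen : V = closure {x | ∃ k ∈ K, x = k * z * k⁻¹}) {v : G} (hv : v ∈ V) (h1 : v ≠ 1) :
    ∃ k ∈ K, v = k * z * k⁻¹ := by
  have hA : ∀ k ∈ K, k * z * k⁻¹ ∈ V := fun k hk => by
    rw [hgen]; exact subset_closure ⟨k, hk, rfl⟩
  have key : ∀ a b : G, (∃ k ∈ K, a = k * z * k⁻¹) → (∃ k ∈ K, b = k * z * k⁻¹) → a ≠ b →
      ∃ k ∈ K, b * a = k * z * k⁻¹ := by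
    rintro _ _ ⟨k, hk, rfl⟩ ⟨k', hk', rfl⟩ hne
    have hb : k⁻¹ * (k' * z * k'⁻¹) * k ∈ V := by
      have := hVn k⁻¹ (inv_mem hk) _ (hA k' hk')
      rwa [inv_inv] at this
    obtain ⟨r, hr, he⟩ := D.exists_r (hVR hb) (by
      intro h
      have h3 : k' * z * k'⁻¹ = 1 := by
        calc k' * z * k'⁻¹ = k * (k⁻¹ * (k' * z * k'⁻¹) * k) * k⁻¹ := by group
          _ = 1 := by rw [h]; group
      have h4 : z = 1 := by
        calc z = k'⁻¹ * (k' * z * k'⁻¹) * k' := by group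
          _ = 1 := by rw [h3]; group
      exact D.large.z_ne h4) (by
      intro h
      apply hne
      calc k * z * k⁻¹ = k * (k⁻¹ * (k' * z * k'⁻¹) * k) * k⁻¹ := by rw [h]
        _ = k' * z * k'⁻¹ := by group)
    refine ⟨k * r * k⁻¹ * k', mul_mem (mul_mem (mul_mem hk (D.RK hK hr)) (inv_mem hk)) hk', ?_⟩
    calc k' * z * k'⁻¹ * (k * z * k⁻¹) = k * (k⁻¹ * (k' * z * k'⁻¹) * k * z) * k⁻¹ := by group
      _ = k * (r * (k⁻¹ * (k' * z * k'⁻¹) * k) * r⁻¹) * k⁻¹ := by rw [he]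
      _ = _ := by group
  have main : ∀ x ∈ closure {x | ∃ k ∈ K, x = k * z * k⁻¹}, x = 1 ∨ ∃ k ∈ K, x = k * z * k⁻¹ := by
    intro x hx
    induction hx using closure_induction with
    | mem x hx => exact Or.inr hx
    | one => exact Or.inl rfl
    | mul x y _ _ ihx ihy =>
      rcases ihx with rfl | hx
      · rw [one_mul]; exact ihy
      · rcases ihy with rfl | hy
        · rw [mul_one]; exact Or.inr hx
        · by_cases hxy : y = x
          · left
            subst hxy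
            obtain ⟨k, hk, rfl⟩ := hx
            exact hV2 _ (hA k hk)
          · exact Or.inr (key y x hy hx hxy)
    | inv x _ ih =>
      rcases ih with rfl | ⟨k, hk, rfl⟩
      · left; exact inv_one
      · right
        refine ⟨k, hk, ?_⟩
        rw [mul_inv_rev, mul_inv_rev, inv_inv, D.large.z_inv]; group
  rw [hgen] at hv
  exact (main v hv).resolve_left h1

/-- the centraliser of `z` in `K` is transitive on `V - ⟨z⟩` -/
theorem trans {K V : Subgroup G} (hK : (S : Subgroup G) ≤ K) (hVR : V ≤ R) (hV2 : ∀ e ∈ V, e * e = 1)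
    (hVc : ∀ v ∈ V, ∀ v' ∈ V, v * v' = v' * v) (hVn : Nr K V)
    (hgen : V = closure {x | ∃ k ∈ K, x = k * z * k⁻¹}) {a b : G} (ha : a ∈ V) (hb : b ∈ V) (ha1 : a ≠ 1)
    (haz : a ≠ z) (hb1 : b ≠ 1) (hbz : b ≠ z) : ∃ c ∈ K, c * z = z * c ∧ c * a * c⁻¹ = b := by
  by_cases h1 : a = b
  · exact ⟨1, one_mem _, by group, by rw [h1]; group⟩
  by_cases h2 : a * b = z
  · obtain ⟨r, hr, he⟩ := D.exists_r (hVR ha) ha1 haz
    refine ⟨r, D.RK hK hr, D.Rz hr, ?_⟩
    rw [he, ← h2, ← mul_assoc, hV2 a ha, one_mul]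
  have hab1 : a * b ≠ 1 := by
    intro h
    apply h1
    calc a = a * (b * b) := by rw [hV2 b hb, mul_one]
      _ = (a * b) * b := by group
      _ = b := by rw [h, one_mul]
  obtain ⟨k, hk, he⟩ := D.conj_all hK hVR hV2 hVn hgen (mul_mem ha hb) hab1
  have hzV : z ∈ V := by
    rw [hgen]; exact subset_closure ⟨1, one_mem _, by group⟩
  -- `a' = k⁻¹ a k`, `z' = k⁻¹ z k`
  obtain ⟨a', ha'⟩ : ∃ a', a' = k⁻¹ * a * k := ⟨_, rfl⟩
  obtain ⟨z', hz'⟩ : ∃ z', z' = k⁻¹ * z * k := ⟨_, rfl⟩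
  have ha'V : a' ∈ V := by
    have := hVn k⁻¹ (inv_mem hk) _ ha
    rwa [inv_inv, ← ha'] at this
  have hz'V : z' ∈ V := by
    have := hVn k⁻¹ (inv_mem hk) _ hzV
    rwa [inv_inv, ← hz'] at this
  have hzk : z = k⁻¹ * (a * b) * k := by rw [he]; group
  -- it suffices to find `r` moving `a'` and not `z'`
  have hr : ∃ r ∈ R, r * a' = a' * z * r ∧ r * z' = z' * r := by
    by_contra hcon
    push Not at hcon
    have comm' : ∀ r ∈ R, ∀ v ∈ V, r * v = v * r ∨ r * v = v * z * r := by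
      intro r hr v hv
      rcases D.large.comm r hr v (hVR hv) with h | h
      · exact Or.inl h
      · right; rw [h, mul_assoc, mul_assoc, D.Rz hr]
    have hz'1 : z' ≠ 1 := by
      intro h
      apply D.large.z_ne
      calc z = k * z' * k⁻¹ := by rw [hz']; group
        _ = 1 := by rw [h]; group
    have hz'z : z' ≠ z := by
      intro h
      apply h2
      calc a * b = k * z * k⁻¹ := he
        _ = k * z' * k⁻¹ := by rw [h]
        _ = z := by rw [hz']; group
    obtain ⟨r0, hr0, he0⟩ := D.exists_r (hVR hz'V) hz'1 hz'z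
    have ha'1 : a' ≠ 1 := by
      intro h
      apply ha1
      calc a = k * a' * k⁻¹ := by rw [ha']; group
        _ = 1 := by rw [h]; group
    have ha'z : a' ≠ z := by
      intro h
      apply hb1
      have h3 : a = a * b := by
        calc a = k * a' * k⁻¹ := by rw [ha']; group
          _ = k * z * k⁻¹ := by rw [h]
          _ = a * b := he.symm
      exact (mul_eq_left.1 h3.symm)
    -- all `r` centralising `z'` centralise `a'`
    have hc1 : ∀ r ∈ R, r * z' = z' * r → r * a' = a' * r := by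
      intro r hr h3
      rcases comm' r hr a' ha'V with h | h
      · exact h
      · exact absurd h3 (hcon r hr h)
    have hr0a : r0 * a' = a' * z * r0 := by
      rcases comm' r0 hr0 a' ha'V with h | h
      · exfalso
        obtain ⟨r1, hr1, he1⟩ := D.exists_r (hVR ha'V) ha'1 ha'z
        have h3 : r1 * a' ≠ a' * r1 := by
          intro h4
          have h5 : a' = a' * z := by rw [← he1, h4]; group
          exact D.large.z_ne (mul_eq_left.1 h5.symm)
        rcases comm' r1 hr1 z' hz'V with h4 | h4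
        · exact h3 (hc1 r1 hr1 h4)
        · have h5 : (r1 * r0) * z' = z' * (r1 * r0) := by
            have h6 : r0 * z' = z' * z * r0 := by rw [← he0]; group
            calc (r1 * r0) * z' = r1 * (r0 * z') := by group
              _ = (r1 * z') * z * r0 := by rw [h6]; group
              _ = z' * (z * (r1 * z)) * r0 := by rw [h4]; group
              _ = z' * (z * z) * (r1 * r0) := by rw [D.Rz hr1]; group
              _ = _ := by rw [D.zz, mul_one]
          have h6 := hc1 _ (mul_mem hr1 hr0) h5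
          apply h3
          calc r1 * a' = (r1 * r0) * a' * r0⁻¹ := by rw [mul_assoc r1 r0, h]; group
            _ = a' * r1 := by rw [h6]; group
      · exact h
    have hr0z : r0 * z' = z' * z * r0 := by rw [← he0]; group
    rcases D.large.cent (a' * z') (mul_mem (hVR ha'V) (hVR hz'V)) (fun r hr => by
      rcases comm' r hr z' hz'V with h3 | h3
      · have h4 := hc1 r hr h3
        calc a' * z' * r = a' * (z' * r) := by group
          _ = (a' * r) * z' := by rw [← h3]; group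
          _ = r * (a' * z') := by rw [← h4]; group
      · -- `r r0` centralises `z'`
        have h5 : (r * r0) * z' = z' * (r * r0) := by
          calc (r * r0) * z' = r * (r0 * z') := by group
            _ = (r * z') * z * r0 := by rw [hr0z]; group
            _ = z' * (z * (r * z)) * r0 := by rw [h3]; group
            _ = z' * (z * z) * (r * r0) := by rw [D.Rz hr]; group
            _ = _ := by rw [D.zz, mul_one]
        have h6 := hc1 _ (mul_mem hr hr0) h5
        have h7 : r * a' = a' * z * r := by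
          have h8 : (r * r0) * a' = r * a' * z * r0 := by
            rw [mul_assoc, hr0a]; group
          have h9 : r * a' * z * r0 = a' * r * r0 := by rw [← h8, h6]; group
          have h10 : r * a' * z = a' * r := mul_right_cancel h9
          calc r * a' = r * a' * (z * z) := by rw [D.zz, mul_one]
            _ = a' * (r * z) := by rw [← mul_assoc, h10]; group
            _ = a' * z * r := by rw [D.Rz hr]; group
        symm
        calc r * (a' * z') = (r * a') * z' := by group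
          _ = a' * z * (r * z') := by rw [h7]; group
          _ = a' * (z * z') * z * r := by rw [h3]; group
          _ = a' * z' * (z * z) * r := by rw [hVc z hzV z' hz'V]; group
          _ = a' * z' * r := by rw [D.zz, mul_one]) with h3 | h3
    · -- a' z' = 1 : a = z
      apply haz
      have h4 : a' = z' := by
        calc a' = a' * (z' * z') := by rw [hV2 z' hz'V, mul_one]
          _ = z' := by rw [← mul_assoc, h3, one_mul]
      calc a = k * a' * k⁻¹ := by rw [ha']; group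
        _ = k * z' * k⁻¹ := by rw [h4]
        _ = z := by rw [hz']; group
    · apply hbz
      have h4 : a * z = a * b := by
        calc a * z = k * (a' * z') * k⁻¹ := by rw [ha', hz']; group
          _ = a * b := by rw [h3, he]
      exact (mul_left_cancel h4).symm
  obtain ⟨r, hr, hra, hrz⟩ := hr
  refine ⟨k * r * k⁻¹, mul_mem (mul_mem hk (D.RK hK hr)) (inv_mem hk), ?_, ?_⟩
  · calc k * r * k⁻¹ * z = k * (r * z') * k⁻¹ := by rw [hz']; group
      _ = k * (z' * r) * k⁻¹ := by rw [hrz]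
      _ = z * (k * r * k⁻¹) := by rw [hz']; group
  · calc k * r * k⁻¹ * a * (k * r * k⁻¹)⁻¹ = k * (r * a' * r⁻¹) * k⁻¹ := by rw [ha']; group
      _ = k * (a' * z) * k⁻¹ := by rw [hra]; group
      _ = a * (k * z * k⁻¹) := by rw [ha']; group
      _ = a * a * b := by rw [← he]; group
      _ = b := by rw [hV2 a ha, one_mul]

/-! ### the normaliser of the four-group -/

/-- the elements of `C(⟨z, u⟩)` lying in `S` -/
def DD (_D : Dat S R z u n w) : Subgroup G := (S : Subgroup G) ⊓ centralizer {u}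

omit [Finite G] in
theorem mem_DD {x : G} : x ∈ D.DD ↔ x ∈ (S : Subgroup G) ∧ x * u = u * x := by
  rw [DD, mem_inf, mem_centralizer_singleton_iff]

theorem uzc : u * z = z * u := D.Sz u (D.RS D.uR)

theorem w_notMem {K : Subgroup G} (hK : (S : Subgroup G) ≤ K) (hw : w ∉ K) : w ∉ (S : Subgroup G) := fun h => hw (hK h)

theorem wDD {x : G} (hx : x ∈ D.DD) : w * x * w⁻¹ ∈ D.DD := by
  rw [mem_DD] at hx ⊢
  refine ⟨D.wS x hx.1, ?_⟩
  have h1 : w⁻¹ * u = u * w⁻¹ := by
    calc w⁻¹ * u = w⁻¹ * (u * w) * w⁻¹ := by group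
      _ = w⁻¹ * (w * u) * w⁻¹ := by rw [D.wu]
      _ = u * w⁻¹ := by group
  calc w * x * w⁻¹ * u = w * x * (w⁻¹ * u) := by group
    _ = w * (x * u) * w⁻¹ := by rw [h1]; group
    _ = (w * u) * x * w⁻¹ := by rw [hx.2]; group
    _ = u * (w * x * w⁻¹) := by rw [D.wu]; group

theorem w3DD : w * w * w ∈ D.DD := by
  rw [mem_DD]
  refine ⟨D.w3, ?_⟩
  have hc : Commute w u := D.wu
  exact ((hc.mul_left hc).mul_left hc).eq

/-- `C(⟨z, u⟩) = D ∪ D w ∪ D w²` -/
theorem cases_C {x : G} (h1 : x * z = z * x) (h2 : x * u = u * x) :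
    ∃ d ∈ D.DD, x = d ∨ x = d * w ∨ x = d * (w * w) := by
  obtain ⟨s, hs, h⟩ := D.cV x h1 h2
  refine ⟨s, ?_, h⟩
  rw [mem_DD]
  refine ⟨hs, ?_⟩
  have hc : Commute w u := D.wu
  have hc2 : Commute x u := h2
  rcases h with h | h | h
  · rw [← h]; exact h2
  · have e : s = x * w⁻¹ := by rw [h]; group
    rw [e]
    exact (hc2.mul_left hc.inv_left).eq
  · have e : s = x * (w * w)⁻¹ := by rw [h]; group
    rw [e]
    exact (hc2.mul_left (hc.mul_left hc).inv_left).eq

/-- `D` contains the 2-elements of `C(⟨z, u⟩)` when `w ∉ D` -/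
theorem two_elt (hw : w ∉ (S : Subgroup G)) {x : G} (h1 : x * z = z * x) (h2 : x * u = u * x) {k : ℕ}
    (hk : x ^ 2 ^ k = 1) : x ∈ D.DD := by
  -- the map to `C(V)/D`
  have hwD : ∀ d ∈ D.DD, ∀ i : ℕ, w ^ i * d * (w ^ i)⁻¹ ∈ D.DD := by
    intro d hd i
    induction i with
    | zero => simpa using hd
    | succ i ih =>
      have := D.wDD ih
      have e : w * (w ^ i * d * (w ^ i)⁻¹) * w⁻¹ = w ^ (i + 1) * d * (w ^ (i + 1))⁻¹ := by
        rw [pow_succ']; group
      rwa [e] at this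
  have pow_mem' : ∀ d ∈ D.DD, ∀ i j : ℕ, ∃ d' ∈ D.DD, (d * w ^ i) ^ j = d' * w ^ (i * j) := by
    intro d hd i j
    induction j with
    | zero => exact ⟨1, one_mem _, by simp⟩
    | succ j ih =>
      obtain ⟨d', hd', he⟩ := ih
      refine ⟨d' * (w ^ (i * j) * d * (w ^ (i * j))⁻¹), mul_mem hd' (hwD d hd _), ?_⟩
      rw [pow_succ, he, Nat.mul_succ, pow_add]
      group
  have hwi : ∀ i : ℕ, w ^ (3 * i) ∈ D.DD := by
    intro i
    rw [pow_mul]
    apply pow_mem
    rw [show (3 : ℕ) = 2 + 1 from rfl, pow_succ, pow_two]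
    exact D.w3DD
  have hnot : ∀ j : ℕ, ¬ 3 ∣ j → w ^ j ∉ D.DD := by
    intro j hj hmem
    have h3 : j % 3 = 1 ∨ j % 3 = 2 := by omega
    have h4 : w ^ j = w ^ (3 * (j / 3)) * w ^ (j % 3) := by rw [← pow_add, Nat.div_add_mod]
    rw [h4] at hmem
    have h5 := (mul_mem_cancel_left (hwi _)).1 hmem
    rcases h3 with h3 | h3
    · rw [h3, pow_one] at h5
      exact hw (D.mem_DD.1 h5).1
    · rw [h3] at h5
      have h6 : w ^ 3 * (w ^ 2)⁻¹ ∈ D.DD := mul_mem (by simpa using hwi 1) (inv_mem h5)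
      have h7 : w ^ 3 * (w ^ 2)⁻¹ = w := by rw [pow_succ']; group
      rw [h7] at h6
      exact hw (D.mem_DD.1 h6).1
  have h32 : ∀ k : ℕ, ¬ 3 ∣ 2 ^ k := fun k h => by
    have := Nat.prime_three.dvd_of_dvd_pow h
    omega
  obtain ⟨d, hd, h | h | h⟩ := D.cases_C h1 h2
  · rw [h]; exact hd
  · exfalso
    have h' : x = d * w ^ 1 := by rw [pow_one]; exact h
    obtain ⟨d', hd', he⟩ := pow_mem' d hd 1 (2 ^ k)
    rw [← h', hk, one_mul] at he
    apply hnot (2 ^ k) (h32 k)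
    have : w ^ 2 ^ k = d'⁻¹ := by rw [← mul_eq_one_iff_eq_inv', he]
    rw [this]; exact inv_mem hd'
  · exfalso
    have h' : x = d * w ^ 2 := by rw [pow_two]; exact h
    obtain ⟨d', hd', he⟩ := pow_mem' d hd 2 (2 ^ k)
    rw [← h', hk] at he
    apply hnot (2 * 2 ^ k) (fun h => by
      have := (Nat.Coprime.dvd_mul_left (by norm_num : Nat.Coprime 3 2)).1 h
      exact h32 k this)
    have : w ^ (2 * 2 ^ k) = d'⁻¹ := by rw [← mul_eq_one_iff_eq_inv', he]
    rw [this]; exact inv_mem hd'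

/-- classes modulo `D` -/
def cl (D : Dat S R z u n w) (i : ℕ) (x : G) : Prop := x * (w ^ i)⁻¹ ∈ D.DD

theorem pDD {d : G} (hd : d ∈ D.DD) (i : ℕ) : w ^ i * d * (w ^ i)⁻¹ ∈ D.DD := by
  induction i with
  | zero => simpa using hd
  | succ i ih =>
    have := D.wDD ih
    have e : w * (w ^ i * d * (w ^ i)⁻¹) * w⁻¹ = w ^ (i + 1) * d * (w ^ (i + 1))⁻¹ := by
      rw [pow_succ']; group
    rwa [e] at this

theorem cl_mul {i j : ℕ} {x y : G} (hx : D.cl i x) (hy : D.cl j y) : D.cl (i + j) (x * y) := by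
  unfold cl at *
  have h1 := D.pDD hy i
  have e : x * y * (w ^ (i + j))⁻¹ = x * (w ^ i)⁻¹ * (w ^ i * (y * (w ^ j)⁻¹) * (w ^ i)⁻¹) := by
    rw [pow_add]; group
  rw [e]
  exact mul_mem hx h1

theorem cl_sub {i : ℕ} {x : G} (hx : D.cl (i + 3) x) : D.cl i x := by
  unfold cl at *
  have h1 : w ^ 3 ∈ D.DD := by
    rw [show (3 : ℕ) = 2 + 1 from rfl, pow_succ, pow_two]
    exact D.w3DD
  have e : x * (w ^ i)⁻¹ = x * (w ^ (i + 3))⁻¹ * (w ^ i * w ^ 3 * (w ^ i)⁻¹) := by
    rw [pow_add]; group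
  rw [e]
  exact mul_mem hx (D.pDD h1 i)

theorem cl_ne (hw : w ∉ (S : Subgroup G)) {x : G} (h1 : D.cl 1 x) (h2 : D.cl 2 x) : False := by
  unfold cl at *
  have h3 := mul_mem (inv_mem h2) h1
  have e : (x * (w ^ 2)⁻¹)⁻¹ * (x * (w ^ 1)⁻¹) = w := by rw [pow_one, pow_two]; group
  rw [e] at h3
  exact hw (D.mem_DD.1 h3).1

/-- conjugation by an element normalising the four-group -/
theorem conj_C {K : Subgroup G} (hz : ∀ k ∈ K, k * z * k⁻¹ = z ∨ k * z * k⁻¹ = u ∨ k * z * k⁻¹ = u * z)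
    (hu : ∀ k ∈ K, k * u * k⁻¹ = z ∨ k * u * k⁻¹ = u ∨ k * u * k⁻¹ = u * z) {x : G} (h1 : x * z = z * x)
    (h2 : x * u = u * x) {k : G} (hk : k ∈ K) :
    k * x * k⁻¹ * z = z * (k * x * k⁻¹) ∧ k * x * k⁻¹ * u = u * (k * x * k⁻¹) := by
  have h3 : x * (u * z) = u * z * x := by rw [← mul_assoc, h2, mul_assoc, h1, mul_assoc]
  have key : ∀ v t : G, k⁻¹ * v * k = t → x * t = t * x → k * x * k⁻¹ * v = v * (k * x * k⁻¹) := by
    intro v t ht hc
    calc k * x * k⁻¹ * v = k * (x * (k⁻¹ * v * k)) * k⁻¹ := by group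
      _ = k * (t * x) * k⁻¹ := by rw [ht, hc]
      _ = v * (k * x * k⁻¹) := by rw [← ht]; group
  have hz' := hz k⁻¹ (inv_mem hk)
  have hu' := hu k⁻¹ (inv_mem hk)
  rw [inv_inv] at hz' hu'
  constructor
  · rcases hz' with h | h | h
    · exact key _ _ h h1
    · exact key _ _ h h2
    · exact key _ _ h h3
  · rcases hu' with h | h | h
    · exact key _ _ h h1
    · exact key _ _ h h2
    · exact key _ _ h h3

/-- **Overgroups of `S` normalising the four-group** -/
theorem of_norm {K : Subgroup G} (hK : (S : Subgroup G) ≤ K) (hwK : w ∉ K)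
    (hz : ∀ k ∈ K, k * z * k⁻¹ = z ∨ k * z * k⁻¹ = u ∨ k * z * k⁻¹ = u * z)
    (hu : ∀ k ∈ K, k * u * k⁻¹ = z ∨ k * u * k⁻¹ = u ∨ k * u * k⁻¹ = u * z) :
    ∀ x ∈ K, w * x * w⁻¹ ∈ K := by
  have hw := D.w_notMem hK hwK
  have hKD : ∀ k ∈ K, ∀ d ∈ D.DD, k * d * k⁻¹ ∈ D.DD := by
    intro k hk d hd
    have hd' := D.mem_DD.1 hd
    obtain ⟨h1, h2⟩ := D.conj_C hz hu (D.Sz d hd'.1) hd'.2 hk
    obtain ⟨j, hj⟩ := S.2 ⟨d, hd'.1⟩
    have hj' : d ^ 2 ^ j = 1 := by
      have h := congrArg Subtype.val hj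
      rw [SubmonoidClass.coe_pow] at h
      exact h
    refine D.two_elt hw h1 h2 (k := j) ?_
    rw [conj_pow, hj']; group
  have hcl : ∀ k ∈ K, D.cl 1 (k * w * k⁻¹) ∨ D.cl 2 (k * w * k⁻¹) := by
    intro k hk
    obtain ⟨h1, h2⟩ := D.conj_C hz hu D.wz D.wu hk
    obtain ⟨d, hd, h | h | h⟩ := D.cases_C h1 h2
    · exfalso
      apply hwK
      have h3 : w = k⁻¹ * d * k := by rw [← h]; group
      rw [h3]
      exact mul_mem (mul_mem (inv_mem hk) (hK (D.mem_DD.1 hd).1)) hk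
    · left
      unfold cl
      rw [h, pow_one, mul_inv_cancel_right]; exact hd
    · right
      unfold cl
      rw [h, pow_two, mul_inv_cancel_right]; exact hd
  -- the subgroup centralising `w` modulo `D`
  obtain ⟨C, hC⟩ : ∃ C : Subgroup G, ∀ k, k ∈ C ↔ k ∈ K ∧ D.cl 1 (k * w * k⁻¹) := by
    refine ⟨{ carrier := {k | k ∈ K ∧ D.cl 1 (k * w * k⁻¹)}
              mul_mem' := ?_
              one_mem' := ?_
              inv_mem' := ?_ }, fun k => Iff.rfl⟩
    · rintro a b ⟨ha, ha'⟩ ⟨hb, hb'⟩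
      refine ⟨mul_mem ha hb, ?_⟩
      unfold cl at *
      rw [pow_one] at *
      have e : a * b * w * (a * b)⁻¹ * w⁻¹ = a * (b * w * b⁻¹ * w⁻¹) * a⁻¹ * (a * w * a⁻¹ * w⁻¹) := by group
      rw [e]
      exact mul_mem (hKD a ha _ hb') ha'
    · refine ⟨one_mem _, ?_⟩
      unfold cl
      have e : (1 : G) * w * 1⁻¹ * (w ^ 1)⁻¹ = 1 := by rw [pow_one]; group
      rw [e]; exact one_mem _
    · rintro a ⟨ha, ha'⟩
      refine ⟨inv_mem ha, ?_⟩
      unfold cl at *
      rw [pow_one] at *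
      have e : a⁻¹ * w * a⁻¹⁻¹ * w⁻¹ = a⁻¹ * (a * w * a⁻¹ * w⁻¹)⁻¹ * a⁻¹⁻¹ := by group
      rw [e]
      exact hKD _ (inv_mem ha) _ (inv_mem ha')
  have hCK : C ≤ K := fun k hk => ((hC k).1 hk).1
  have hSC : (S : Subgroup G) ≤ C := by
    intro s hs
    rw [hC]
    refine ⟨hK hs, ?_⟩
    unfold cl
    rw [pow_one, D.mem_DD]
    constructor
    · have h1 := mul_mem hs (D.wS s⁻¹ (inv_mem hs))
      have e : s * (w * s⁻¹ * w⁻¹) = s * w * s⁻¹ * w⁻¹ := by group
      rwa [e] at h1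
    · obtain ⟨-, h2⟩ := D.conj_C hz hu D.wz D.wu (hK hs)
      have hc : Commute (s * w * s⁻¹) u := h2
      have hc' : Commute w u := D.wu
      exact (hc.mul_left hc'.inv_left).eq
  have hall : ∀ k ∈ K, k ∈ C := by
    by_contra hcon
    push Not at hcon
    obtain ⟨k0, hk0, hk0C⟩ := hcon
    have h0 : D.cl 2 (k0 * w * k0⁻¹) := (hcl k0 hk0).resolve_left fun h => hk0C ((hC k0).2 ⟨hk0, h⟩)
    have hidx : (C.subgroupOf K).index = 2 := by
      rw [index_eq_two_iff]
      refine ⟨⟨k0, hk0⟩, fun b => ?_⟩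
      have hbk : D.cl 1 ((b : G) * k0 * w * ((b : G) * k0)⁻¹) ↔ D.cl 2 ((b : G) * w * (b : G)⁻¹) := by
        have hb0 : (b : G) * (k0 * w * k0⁻¹ * (w ^ 2)⁻¹) * (b : G)⁻¹ ∈ D.DD := hKD b b.2 _ h0
        have e : (b : G) * k0 * w * ((b : G) * k0)⁻¹ = (b : G) * (k0 * w * k0⁻¹ * (w ^ 2)⁻¹) * (b : G)⁻¹ *
            (((b : G) * w * (b : G)⁻¹) * ((b : G) * w * (b : G)⁻¹)) := by rw [pow_two]; group
        have hcl0 : D.cl 0 ((b : G) * (k0 * w * k0⁻¹ * (w ^ 2)⁻¹) * (b : G)⁻¹) := by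
          unfold cl
          rw [pow_zero, inv_one, mul_one]; exact hb0
        rcases hcl b b.2 with h1 | h1
        · have h2 := D.cl_mul hcl0 (D.cl_mul h1 h1)
          rw [← e] at h2
          constructor
          · intro h3; exact (D.cl_ne hw h3 h2).elim
          · intro h3; exact (D.cl_ne hw h1 h3).elim
        · have h2 := D.cl_mul hcl0 (D.cl_mul h1 h1)
          rw [← e] at h2
          exact ⟨fun _ => h1, fun _ => D.cl_sub h2⟩
      have hb : (b * ⟨k0, hk0⟩ ∈ C.subgroupOf K) ↔ D.cl 2 ((b : G) * w * (b : G)⁻¹) := by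
        rw [mem_subgroupOf, hC, ← hbk]
        exact ⟨fun h => h.2, fun h => ⟨(b * ⟨k0, hk0⟩ : K).2, h⟩⟩
      have hb' : (b ∈ C.subgroupOf K) ↔ D.cl 1 ((b : G) * w * (b : G)⁻¹) := by
        rw [mem_subgroupOf, hC]
        exact ⟨fun h => h.2, fun h => ⟨b.2, h⟩⟩
      rw [hb, hb']
      rcases hcl b b.2 with h1 | h1
      · exact Or.inr ⟨h1, fun h => D.cl_ne hw h1 h⟩
      · exact Or.inl ⟨h1, fun h => D.cl_ne hw h h1⟩
    have h1 : (C.subgroupOf K).index ∣ ((S : Subgroup G).subgroupOf K).index :=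
      index_dvd_of_le fun x hx => by rw [mem_subgroupOf] at hx ⊢; exact hSC hx
    have h2 : ((S : Subgroup G).subgroupOf K).index ∣ (S : Subgroup G).index :=
      ⟨K.index, (relIndex_mul_index hK).symm⟩
    rw [hidx] at h1
    have : Fact (Nat.Prime 2) := ⟨Nat.prime_two⟩
    exact S.not_dvd_index (h1.trans h2)
  intro x hx
  have h1 := ((hC _).1 (hall x⁻¹ (inv_mem hx))).2
  unfold cl at h1
  rw [pow_one, inv_inv] at h1
  have h2 := mul_mem hx (hK (D.mem_DD.1 h1).1)
  have e : x * (x⁻¹ * w * x * w⁻¹) = w * x * w⁻¹ := by group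
  rwa [e] at h2

/-- the four-group -/
def F : Subgroup G where
  carrier := {x | x = 1 ∨ x = z ∨ x = u ∨ x = u * z}
  one_mem' := Or.inl rfl
  mul_mem' := by
    have hzz := D.zz
    have huu := D.uu
    have hc := D.uzc
    have h1 : z * u = u * z := hc.symm
    have h2 : z * (u * z) = u := by rw [← mul_assoc, h1, mul_assoc, hzz, mul_one]
    have h3 : u * z * z = u := by rw [mul_assoc, hzz, mul_one]
    have h4 : u * z * u = z := by rw [mul_assoc, h1, ← mul_assoc, huu, one_mul]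
    have h5 : u * (u * z) = z := by rw [← mul_assoc, huu, one_mul]
    have h6 : u * z * (u * z) = 1 := by rw [mul_assoc, h2, huu]
    rintro a b (rfl | rfl | rfl | rfl) (rfl | rfl | rfl | rfl) <;>
      simp only [Set.mem_ofPred_eq, one_mul, mul_one, hzz, huu, h1, h2, h3, h4, h5, h6, true_or, or_true]
  inv_mem' := by
    have hz : z⁻¹ = z := inv_eq_of_mul_eq_one_left D.zz
    have hu : u⁻¹ = u := inv_eq_of_mul_eq_one_left D.uu
    rintro a (rfl | rfl | rfl | rfl)
    · left; exact inv_one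
    · right; left; exact hz
    · right; right; left; exact hu
    · right; right; right
      rw [mul_inv_rev, hz, hu]; exact D.uzc.symm

theorem mem_F {x : G} : x ∈ D.F ↔ x = 1 ∨ x = z ∨ x = u ∨ x = u * z := Iff.rfl

theorem zF : z ∈ D.F := Or.inr (Or.inl rfl)
theorem uF : u ∈ D.F := Or.inr (Or.inr (Or.inl rfl))
theorem uzF : u * z ∈ D.F := Or.inr (Or.inr (Or.inr rfl))

theorem mem_nF {g : G} (h1 : g * z * g⁻¹ ∈ D.F) (h2 : g * u * g⁻¹ ∈ D.F) : g ∈ normalizer (D.F : Set G) := by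
  have h3 : ∀ x ∈ D.F, g * x * g⁻¹ ∈ D.F := by
    rintro x (rfl | rfl | rfl | rfl)
    · rw [mul_one, mul_inv_cancel]; exact one_mem _
    · exact h1
    · exact h2
    · have e : g * (u * z) * g⁻¹ = (g * u * g⁻¹) * (g * z * g⁻¹) := by group
      rw [e]; exact mul_mem h2 h1
  have h4 : D.F.map (MulAut.conj g).toMonoidHom = D.F := by
    apply Subgroup.eq_of_le_of_card_ge
    · rintro _ ⟨x, hx, rfl⟩
      exact h3 x hx
    · rw [Subgroup.card_map_of_injective (MulAut.conj g : G ≃* G).injective]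
  rw [mem_normalizer_iff]
  intro x
  refine ⟨fun hx => h3 x hx, fun hx => ?_⟩
  have h5 : g * x * g⁻¹ ∈ D.F.map (MulAut.conj g).toMonoidHom := by rw [h4]; exact hx
  obtain ⟨y, hy, hye⟩ := h5
  have h6 : g * y * g⁻¹ = g * x * g⁻¹ := hye
  have h7 : y = x := mul_left_cancel (mul_right_cancel h6)
  rwa [← h7]

/-- **The case `O_2(K) ≠ 1`** -/
theorem caseA {K M : Subgroup G} (hK : (S : Subgroup G) ≤ K) (hwK : w ∉ K)
    (hM : ∀ H : Subgroup G, (S : Subgroup G) ≤ H → H < K → H ≤ M) (hMK : ¬ K ≤ M)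
    (hnc : ∃ x ∈ K, x * z ≠ z * x) {O : Subgroup G} (hO2 : IsPGroup 2 O) (hOn : Nr K O) (hO1 : O ≠ ⊥) :
    ∀ x ∈ K, w * x * w⁻¹ ∈ K := by
  have hOS : O ≤ (S : Subgroup G) := le_of_nr hO2 fun s hs o ho => hOn s (hK hs) o ho
  have hzO : z ∈ O := D.z_mem_of hOS (fun s hs o ho => hOn s (hK hs) o ho) hO1
  have hzK : z ∈ K := hK D.z_mem
  obtain ⟨T, hT⟩ : ∃ T : Set G, T = {x | ∃ k ∈ K, x = k * z * k⁻¹} := ⟨_, rfl⟩
  obtain ⟨V, hV⟩ : ∃ V, V = closure T := ⟨_, rfl⟩
  have hTV : T ⊆ V := by rw [hV]; exact subset_closure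
  have hcT : ∀ a ∈ T, ∀ b ∈ T, a * b = b * a := by
    rw [hT]
    rintro _ ⟨k, hk, rfl⟩ _ ⟨k', hk', rfl⟩
    have h1 : k⁻¹ * (k' * z * k'⁻¹) * k ∈ O := by
      have := hOn k⁻¹ (inv_mem hk) _ (hOn k' hk' z hzO)
      rwa [inv_inv] at this
    have h2 := D.Sz _ (hOS h1)
    calc k * z * k⁻¹ * (k' * z * k'⁻¹) = k * (z * (k⁻¹ * (k' * z * k'⁻¹) * k)) * k⁻¹ := by group
      _ = k * ((k⁻¹ * (k' * z * k'⁻¹) * k) * z) * k⁻¹ := by rw [h2]
      _ = _ := by group
  have hVO : V ≤ O := by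
    rw [hV, closure_le, hT]
    rintro _ ⟨k, hk, rfl⟩
    exact hOn k hk z hzO
  have hVc : ∀ a ∈ V, ∀ b ∈ V, a * b = b * a := by
    have h1 : V ≤ centralizer (V : Set G) := by
      have h2 : V ≤ centralizer T := by
        rw [hV, closure_le]
        intro a ha
        rw [SetLike.mem_coe, mem_centralizer_iff]
        intro b hb
        exact hcT b hb a ha
      have h3 : centralizer (V : Set G) = centralizer T := by rw [hV, centralizer_closure]
      rw [h3]; exact h2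
    intro a ha b hb
    exact (mem_centralizer_iff.1 (h1 ha) b hb).symm
  have hV2 : ∀ a ∈ V, a * a = 1 := by
    intro a ha
    have key : ∀ x ∈ closure T, x ∈ V ∧ x * x = 1 := by
      intro x hx
      induction hx using closure_induction with
      | mem x hx =>
        refine ⟨hTV hx, ?_⟩
        rw [hT] at hx
        obtain ⟨k, _, rfl⟩ := hx
        calc k * z * k⁻¹ * (k * z * k⁻¹) = k * (z * z) * k⁻¹ := by group
          _ = 1 := by rw [D.zz]; group
      | one => exact ⟨one_mem _, one_mul _⟩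
      | mul x y _ _ ihx ihy =>
        refine ⟨mul_mem ihx.1 ihy.1, ?_⟩
        calc x * y * (x * y) = x * (y * x) * y := by group
          _ = (x * x) * (y * y) := by rw [hVc y ihy.1 x ihx.1]; group
          _ = 1 := by rw [ihx.2, ihy.2, one_mul]
      | inv x _ ih =>
        refine ⟨inv_mem ih.1, ?_⟩
        rw [← mul_inv_rev, ih.2, inv_one]
    rw [hV] at ha
    exact (key a ha).2
  have hVn : Nr K V := by
    intro k hk v hv
    rw [hV] at hv
    induction hv using closure_induction with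
    | mem x hx =>
      apply hTV
      rw [hT] at hx ⊢
      obtain ⟨k', hk', rfl⟩ := hx
      exact ⟨k * k', mul_mem hk hk', by group⟩
    | one => rw [mul_one, mul_inv_cancel]; exact one_mem _
    | mul x y _ _ ihx ihy =>
      have e : k * (x * y) * k⁻¹ = (k * x * k⁻¹) * (k * y * k⁻¹) := by group
      rw [e]; exact mul_mem ihx ihy
    | inv x _ ih =>
      have e : k * x⁻¹ * k⁻¹ = (k * x * k⁻¹)⁻¹ := by group
      rw [e]; exact inv_mem ih
  have hVS : V ≤ (S : Subgroup G) := hVO.trans hOS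
  have hVnS : Nr (S : Subgroup G) V := fun s hs v hv => hVn s (hK hs) v hv
  have hVR : V ≤ R := D.ab V hVS hVnS hV2
  have hzV : z ∈ V := hTV (by rw [hT]; exact ⟨1, one_mem _, by group⟩)
  have hgen : V = closure {x | ∃ k ∈ K, x = k * z * k⁻¹} := by rw [hV, hT]
  have hkzk : ∀ k ∈ K, k * z * k⁻¹ ∈ V := fun k hk => hTV (by rw [hT]; exact ⟨k, hk, rfl⟩)
  have hkz1 : ∀ k : G, k * z * k⁻¹ ≠ 1 := by
    intro k h
    apply D.large.z_ne
    calc z = k⁻¹ * (k * z * k⁻¹) * k := by group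
      _ = 1 := by rw [h]; group
  obtain ⟨x0, hx0, hx0z⟩ := hnc
  have hx0' : x0 * z * x0⁻¹ ≠ z := by
    intro h
    apply hx0z
    calc x0 * z = x0 * z * x0⁻¹ * x0 := by group
      _ = z * x0 := by rw [h]
  have huV : u ∈ V := by
    obtain ⟨x, hx, hx1, hxz, hxS⟩ := D.exists_mod hVS hVnS (hkzk x0 hx0) (hkz1 x0) hx0'
    rcases D.uniq x (hVR hx) hxS with h | h | h | h
    · exact absurd h hx1
    · exact absurd h hxz
    · rw [← h]; exact hx
    · have h1 := mul_mem hx hzV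
      rw [h, mul_assoc, D.zz, mul_one] at h1
      exact h1
  by_cases hV4 : ∀ v ∈ V, v = 1 ∨ v = z ∨ v = u ∨ v = u * z
  · refine D.of_norm hK hwK (fun k hk => (hV4 _ (hkzk k hk)).resolve_left (hkz1 k)) fun k hk => ?_
    refine (hV4 _ (hVn k hk u huV)).resolve_left fun h => D.u1 ?_
    calc u = k⁻¹ * (k * u * k⁻¹) * k := by group
      _ = 1 := by rw [h]; group
  · exfalso
    apply hMK
    -- the centraliser of `z`
    have hC : K ⊓ centralizer {z} ≤ M := by
      apply hM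
      · intro s hs
        exact mem_inf.2 ⟨hK hs, mem_centralizer_singleton_iff.2 (D.Sz s hs)⟩
      · refine lt_of_le_of_ne inf_le_left fun h => ?_
        have h1 : x0 ∈ K ⊓ centralizer {z} := by rw [h]; exact hx0
        exact hx0z (mem_centralizer_singleton_iff.1 (mem_inf.1 h1).2)
    have hN : K ⊓ normalizer (D.F : Set G) ≤ M := by
      apply hM
      · intro s hs
        refine mem_inf.2 ⟨hK hs, D.mem_nF ?_ ?_⟩
        · rw [D.Sz s hs, mul_inv_cancel_right]; exact D.zF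
        · rcases D.uS s hs with h | h <;> rw [h]
          · exact D.uF
          · exact D.uzF
      · refine lt_of_le_of_ne inf_le_left fun h => ?_
        apply hV4
        have h1 : V ≤ D.F := by
          rw [hV, closure_le, hT]
          rintro _ ⟨k, hk, rfl⟩
          have h2 : k ∈ K ⊓ normalizer (D.F : Set G) := by rw [h]; exact hk
          exact (mem_normalizer_iff.1 (mem_inf.1 h2).2 z).1 D.zF
        intro v hv
        exact D.mem_F.1 (h1 hv)
    -- an element of `N_K(F)` moving `z`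
    obtain ⟨k, hk, hku⟩ := D.conj_all hK hVR hV2 hVn hgen huV D.u1
    have hb : k⁻¹ * z * k ∈ V := by
      have := hVn k⁻¹ (inv_mem hk) _ hzV
      rwa [inv_inv] at this
    obtain ⟨r, hr, he⟩ := D.exists_r (hVR hb) (by
      intro h
      apply D.large.z_ne
      calc z = k * (k⁻¹ * z * k) * k⁻¹ := by group
        _ = 1 := by rw [h]; group) (by
      intro h
      apply D.uz
      calc u = k * (k⁻¹ * z * k) * k⁻¹ := by rw [h]; exact hku
        _ = z := by group)
    obtain ⟨g, hg⟩ : ∃ g, g = k * r * k⁻¹ := ⟨_, rfl⟩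
    have hgK : g ∈ K := by rw [hg]; exact mul_mem (mul_mem hk (D.RK hK hr)) (inv_mem hk)
    have hgz : g * z * g⁻¹ = u * z := by
      rw [D.uzc, hg]
      calc k * r * k⁻¹ * z * (k * r * k⁻¹)⁻¹ = k * (r * (k⁻¹ * z * k) * r⁻¹) * k⁻¹ := by group
        _ = k * (k⁻¹ * z * k * z) * k⁻¹ := by rw [he]
        _ = z * (k * z * k⁻¹) := by group
        _ = z * u := by rw [← hku]
    have hgu : g * u * g⁻¹ = u := by
      rw [hg]
      calc k * r * k⁻¹ * u * (k * r * k⁻¹)⁻¹ = k * (r * (k⁻¹ * u * k) * r⁻¹) * k⁻¹ := by group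
        _ = k * (r * z * r⁻¹) * k⁻¹ := by rw [hku]; group
        _ = k * z * k⁻¹ := by rw [D.Rz hr]; group
        _ = u := hku.symm
    have hgM : g ∈ M := hN (mem_inf.2 ⟨hgK, D.mem_nF (by rw [hgz]; exact D.uzF) (by rw [hgu]; exact D.uF)⟩)
    intro y hy
    by_cases hyz : y * z * y⁻¹ = z
    · apply hC
      refine mem_inf.2 ⟨hy, mem_centralizer_singleton_iff.2 ?_⟩
      calc y * z = y * z * y⁻¹ * y := by group
        _ = z * y := by rw [hyz]
    · have huz1 : u * z ≠ 1 := by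
        intro h
        apply D.uz
        calc u = u * z * z := by rw [mul_assoc, D.zz, mul_one]
          _ = z := by rw [h, one_mul]
      have huzz : u * z ≠ z := by
        intro h
        exact D.u1 (mul_eq_right.1 h)
      obtain ⟨c, hcK, hcz, hc⟩ := D.trans hK hVR hV2 hVc hVn hgen (mul_mem huV hzV) (hkzk y hy) huz1 huzz
        (hkz1 y) hyz
      have hcM : c ∈ M := hC (mem_inf.2 ⟨hcK, mem_centralizer_singleton_iff.2 hcz⟩)
      have h1 : (g⁻¹ * c⁻¹ * y) * z = z * (g⁻¹ * c⁻¹ * y) := by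
        have h2 : c * (g * z * g⁻¹) * c⁻¹ = y * z * y⁻¹ := by rw [hgz]; exact hc
        calc (g⁻¹ * c⁻¹ * y) * z = g⁻¹ * c⁻¹ * (y * z * y⁻¹) * y := by group
          _ = z * (g⁻¹ * c⁻¹ * y) := by rw [← h2]; group
      have h3 : g⁻¹ * c⁻¹ * y ∈ M :=
        hC (mem_inf.2 ⟨mul_mem (mul_mem (inv_mem hgK) (inv_mem hcK)) hy, mem_centralizer_singleton_iff.2 h1⟩)
      have e : y = c * g * (g⁻¹ * c⁻¹ * y) := by group
      rw [e]
      exact mul_mem (mul_mem hcM hgM) h3

/-! ### odd order -/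

/-- a subgroup of odd order normalised by `S` is trivial -/
theorem odd_bot {X : Subgroup G} (hX : Odd (Nat.card X)) (hn : Nr (S : Subgroup G) X) : X = ⊥ := by
  have key0 : ∀ y ∈ X, y * z = z * y → y = 1 := by
    intro y hy hyz
    have h1 : ∀ r ∈ R, y * r = r * y := by
      intro r hr
      have h2 : y * r * y⁻¹ * r⁻¹ ∈ R := mul_mem (D.large.conj_mem y hyz r hr) (inv_mem hr)
      have h3 : y * (r * y⁻¹ * r⁻¹) ∈ X := mul_mem hy (hn r (D.RS hr) y⁻¹ (inv_mem hy))
      have e : y * (r * y⁻¹ * r⁻¹) = y * r * y⁻¹ * r⁻¹ := by group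
      rw [e] at h3
      have h4 := eq_one_of_odd hX D.R2 h3 h2
      calc y * r = y * r * y⁻¹ * r⁻¹ * (r * y) := by group
        _ = r * y := by rw [h4, one_mul]
    exact eq_one_of_odd hX D.R2 hy (D.large.self y hyz h1)
  have key : ∀ m v : G, m * z * m⁻¹ = v → m⁻¹ * z * m ∈ R → ∀ y ∈ X, y * v = v * y → y = 1 := by
    intro m v hm hmR y hy hyv
    apply key0 y hy
    obtain ⟨t, ht⟩ : ∃ t, t = y * z * y⁻¹ * z⁻¹ := ⟨_, rfl⟩
    have htX : t ∈ X := by
      have h3 : y * (z * y⁻¹ * z⁻¹) ∈ X := mul_mem hy (hn z D.z_mem y⁻¹ (inv_mem hy))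
      have e : y * (z * y⁻¹ * z⁻¹) = y * z * y⁻¹ * z⁻¹ := by group
      rw [ht, ← e]; exact h3
    have h1 : (m⁻¹ * y * m) * z = z * (m⁻¹ * y * m) := by
      calc (m⁻¹ * y * m) * z = m⁻¹ * (y * (m * z * m⁻¹)) * m := by group
        _ = m⁻¹ * (y * v) * m := by rw [hm]
        _ = m⁻¹ * (m * z * m⁻¹ * y) * m := by rw [hyv, hm]
        _ = z * (m⁻¹ * y * m) := by group
    have h2 : m⁻¹ * t * m ∈ R := by
      have h3 := mul_mem (D.large.conj_mem _ h1 _ hmR) (inv_mem hmR)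
      have e : m⁻¹ * y * m * (m⁻¹ * z * m) * (m⁻¹ * y * m)⁻¹ * (m⁻¹ * z * m)⁻¹ = m⁻¹ * t * m := by
        rw [ht]; group
      rwa [e] at h3
    have h3 : t = 1 := by
      have hT : IsPGroup 2 (R.map (MulAut.conj m).toMonoidHom) := D.R2.map _
      exact eq_one_of_odd hX hT htX ⟨m⁻¹ * t * m, h2, by
        change m * (m⁻¹ * t * m) * m⁻¹ = t
        group⟩
    calc y * z = y * z * y⁻¹ * z⁻¹ * (z * y) := by group
      _ = z * y := by rw [← ht, h3, one_mul]
  have inv : ∀ v ∈ (S : Subgroup G), v * v = 1 → (∀ y ∈ X, y * v = v * y → y = 1) →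
      ∀ y ∈ X, v * y * v⁻¹ = y⁻¹ := by
    intro v hv hvv hfix y hy
    let f : X →* X := {
      toFun := fun x => ⟨v * x * v⁻¹, hn v hv x x.2⟩
      map_one' := Subtype.ext (by change v * 1 * v⁻¹ = 1; group)
      map_mul' := fun a b => Subtype.ext (by
        change v * (a * b) * v⁻¹ = (v * a * v⁻¹) * (v * b * v⁻¹)
        group) }
    have hf : MonoidHom.FixedPointFree f := by
      intro x hx
      have h1 : v * x * v⁻¹ = x := congrArg Subtype.val hx
      apply Subtype.ext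
      apply hfix x x.2
      calc (x : G) * v = v * x * v⁻¹ * v := by rw [h1]
        _ = v * x := by group
    have h2 : Function.Involutive f := by
      intro x
      apply Subtype.ext
      change v * (v * x * v⁻¹) * v⁻¹ = x
      calc v * (v * x * v⁻¹) * v⁻¹ = (v * v) * x * (v * v)⁻¹ := by group
        _ = x := by rw [hvv]; group
    have h3 := hf.coe_eq_inv_of_involutive h2
    have h4 := congrFun h3 ⟨y, hy⟩
    exact congrArg Subtype.val h4
  obtain ⟨r0, hr0, he0⟩ := D.exists_r D.uR D.u1 D.uz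
  have hzi := inv z D.z_mem D.zz key0
  have hui := inv u (D.RS D.uR) D.uu (key n u D.nz D.nR)
  have huz : ∀ y ∈ X, y * (u * z) = u * z * y → y = 1 := by
    refine key (r0 * n) (u * z) ?_ ?_
    · calc r0 * n * z * (r0 * n)⁻¹ = r0 * (n * z * n⁻¹) * r0⁻¹ := by group
        _ = u * z := by rw [D.nz, he0]
    · have e : (r0 * n)⁻¹ * z * (r0 * n) = n⁻¹ * (r0⁻¹ * (z * r0)) * n := by group
      rw [e, ← D.Rz hr0]
      have e2 : n⁻¹ * (r0⁻¹ * (r0 * z)) * n = n⁻¹ * z * n := by group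
      rw [e2]; exact D.nR
  rw [eq_bot_iff]
  intro y hy
  rw [mem_bot]
  apply huz y hy
  have h1 : u * z * y * (u * z)⁻¹ = y := by
    calc u * z * y * (u * z)⁻¹ = u * (z * y * z⁻¹) * u⁻¹ := by group
      _ = (u * y * u⁻¹)⁻¹ := by rw [hzi y hy]; group
      _ = y := by rw [hui y hy, inv_inv]
  calc y * (u * z) = u * z * y * (u * z)⁻¹ * (u * z) := by rw [h1]
    _ = u * z * y := by group

end

end Dat

end Cfsg.Agent.H280.HNEngine
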