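import Cfsg.Agent.H280.HNEngine

/-!
# Overgroups of `S` without normal 2-subgroups are almost simple (helper280)
-/

set_option autoImplicit false
set_option linter.unusedSectionVars false

namespace Cfsg.Agent.H280.HNEngine

open Subgroup Cfsg.Agent.Co2Type.Quad

variable {G : Type*} [Group G]

/-- conjugate subgroup -/
def cj (k : G) (L : Subgroup G) : Subgroup G := L.map (MulAut.conj k).toMonoidHom

theorem mem_cj {k x : G} {L : Subgroup G} : x ∈ cj k L ↔ k⁻¹ * x * k ∈ L := by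
  constructor
  · rintro ⟨y, hy, rfl⟩
    have e : k⁻¹ * (k * y * k⁻¹) * k = y := by group
    change k⁻¹ * (k * y * k⁻¹) * k ∈ L
    rw [e]; exact hy
  · intro h
    refine ⟨_, h, ?_⟩
    change k * (k⁻¹ * x * k) * k⁻¹ = x
    group

theorem conj_mem_cj {k x : G} {L : Subgroup G} (h : x ∈ L) : k * x * k⁻¹ ∈ cj k L := ⟨x, h, rfl⟩

theorem cj_mul (a b : G) (L : Subgroup G) : cj (a * b) L = cj a (cj b L) := by
  ext x
  rw [mem_cj, mem_cj, mem_cj]
  have e : (a * b)⁻¹ * x * (a * b) = b⁻¹ * (a⁻¹ * x * a) * b := by group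
  rw [e]

theorem cj_one (L : Subgroup G) : cj 1 L = L := by
  ext x
  rw [mem_cj]
  have e : (1 : G)⁻¹ * x * 1 = x := by group
  rw [e]

theorem cj_bot {k : G} {L : Subgroup G} (h : cj k L = ⊥) : L = ⊥ := by
  rw [eq_bot_iff]
  intro x hx
  have h1 : k * x * k⁻¹ ∈ cj k L := conj_mem_cj hx
  rw [h, mem_bot] at h1
  rw [mem_bot]
  calc x = k⁻¹ * (k * x * k⁻¹) * k := by group
    _ = 1 := by rw [h1]; group

/-- elementwise commuting -/
def Cm (A B : Subgroup G) : Prop := ∀ a ∈ A, ∀ b ∈ B, a * b = b * a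

/-- a minimal normal subgroup `N` of `K` and a minimal normal subgroup `L` of `N` -/
structure MP (K N L : Subgroup G) : Prop where
  NK : N ≤ K
  nN : Nr K N
  N1 : N ≠ ⊥
  minN : ∀ H ≤ N, Nr K H → H ≠ ⊥ → H = N
  LN : L ≤ N
  nL : Nr N L
  L1 : L ≠ ⊥
  minL : ∀ H ≤ L, Nr N H → H ≠ ⊥ → H = L

theorem exists_min [Finite G] (P : Subgroup G → Prop) {H0 : Subgroup G} (h : P H0) :
    ∃ H, P H ∧ ∀ H', P H' → H' ≤ H → H' = H := by
  obtain ⟨m, hm⟩ : ∃ m, Nat.card H0 = m := ⟨_, rfl⟩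
  induction m using Nat.strong_induction_on generalizing H0 with
  | _ m ih =>
    by_cases hc : ∀ H', P H' → H' ≤ H0 → H' = H0
    · exact ⟨H0, h, hc⟩
    · push Not at hc
      obtain ⟨H', h1, h2, h3⟩ := hc
      refine ih (Nat.card H') ?_ h1 rfl
      rw [← hm]
      exact lt_of_not_ge fun h4 => h3 (Subgroup.eq_of_le_of_card_ge h2 h4)

theorem exists_MP [Finite G] {K : Subgroup G} (hK : K ≠ ⊥) : ∃ N L, MP K N L := by
  obtain ⟨N, ⟨h1, h2, h3⟩, hmin⟩ := exists_min (fun H => H ≤ K ∧ Nr K H ∧ H ≠ ⊥) (H0 := K)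
    ⟨le_refl _, fun a ha b hb => mul_mem (mul_mem ha hb) (inv_mem ha), hK⟩
  obtain ⟨L, ⟨k1, k2, k3⟩, hminL⟩ := exists_min (fun H => H ≤ N ∧ Nr N H ∧ H ≠ ⊥) (H0 := N)
    ⟨le_refl _, fun a ha b hb => mul_mem (mul_mem ha hb) (inv_mem ha), h3⟩
  exact ⟨N, L, h1, h2, h3, fun H hH hn hb => hmin H ⟨hH.trans h1, hn, hb⟩ hH, k1, k2, k3,
    fun H hH hn hb => hminL H ⟨hH.trans k1, hn, hb⟩ hH⟩

namespace MP

variable {K N L : Subgroup G} (m : MP K N L)

include m

theorem cj_mem {k : G} (hk : k ∈ K) : MP K N (cj k L) := by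
  refine ⟨m.NK, m.nN, m.N1, m.minN, ?_, ?_, ?_, ?_⟩
  · rintro _ ⟨x, hx, rfl⟩
    exact m.nN k hk x (m.LN hx)
  · intro a ha b hb
    rw [mem_cj] at hb ⊢
    have h1 : k⁻¹ * a * k ∈ N := by
      have := m.nN k⁻¹ (inv_mem hk) a ha
      rwa [inv_inv] at this
    have h2 := m.nL _ h1 _ hb
    have e : k⁻¹ * (a * b * a⁻¹) * k = k⁻¹ * a * k * (k⁻¹ * b * k) * (k⁻¹ * a * k)⁻¹ := by group
    rw [e]; exact h2
  · exact fun h => m.L1 (cj_bot h)
  · intro H hH hn hb
    have h1 : cj k⁻¹ H = L := by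
      apply m.minL
      · intro x hx
        rw [mem_cj, inv_inv] at hx
        have h2 := hH hx
        rw [mem_cj] at h2
        have e : k⁻¹ * (k * x * k⁻¹) * k = x := by group
        rwa [e] at h2
      · intro a ha b hb'
        rw [mem_cj, inv_inv] at hb' ⊢
        have h2 := hn _ (m.nN k hk a ha) _ hb'
        have e : k * (a * b * a⁻¹) * k⁻¹ = k * a * k⁻¹ * (k * b * k⁻¹) * (k * a * k⁻¹)⁻¹ := by group
        rw [e]; exact h2
      · exact fun h => hb (cj_bot h)
    rw [← h1, ← cj_mul, mul_inv_cancel, cj_one]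

theorem dich {k k' : G} (hk : k ∈ K) (hk' : k' ∈ K) : cj k L = cj k' L ∨ Cm (cj k L) (cj k' L) := by
  have m1 := m.cj_mem hk
  have m2 := m.cj_mem hk'
  by_cases h : cj k L ⊓ cj k' L = ⊥
  · right
    intro a ha b hb
    have h1 : a * b * a⁻¹ * b⁻¹ ∈ cj k L ⊓ cj k' L := by
      refine mem_inf.2 ⟨?_, ?_⟩
      · have h2 := m1.nL b (m2.LN hb) a⁻¹ (inv_mem ha)
        have e : a * (b * a⁻¹ * b⁻¹) = a * b * a⁻¹ * b⁻¹ := by group
        rw [← e]; exact mul_mem ha h2
      · exact mul_mem (m2.nL a (m1.LN ha) b hb) (inv_mem hb)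
    rw [h, mem_bot] at h1
    calc a * b = a * b * a⁻¹ * b⁻¹ * (b * a) := by group
      _ = b * a := by rw [h1, one_mul]
  · left
    have hn : Nr N (cj k L ⊓ cj k' L) := fun a ha b hb =>
      mem_inf.2 ⟨m1.nL a ha b (mem_inf.1 hb).1, m2.nL a ha b (mem_inf.1 hb).2⟩
    exact (m1.minL _ inf_le_left hn h).symm.trans (m2.minL _ inf_le_right hn h)

theorem dich1 {k : G} (hk : k ∈ K) : cj k L = L ∨ Cm (cj k L) L := by
  have h := m.dich hk (one_mem K)
  rwa [cj_one] at h

/-- `N` is generated by the conjugates of `L` -/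
theorem gen : N = closure {x | ∃ k ∈ K, x ∈ cj k L} := by
  symm
  have hsub : {x | ∃ k ∈ K, x ∈ cj k L} ⊆ (N : Set G) := by
    rintro x ⟨k, hk, hx⟩
    exact (m.cj_mem hk).LN hx
  apply m.minN
  · rw [closure_le]; exact hsub
  · intro a ha b hb
    induction hb using closure_induction with
    | mem x hx =>
      obtain ⟨k, hk, hx⟩ := hx
      apply Subgroup.subset_closure
      refine ⟨a * k, mul_mem ha hk, ?_⟩
      rw [cj_mul]; exact conj_mem_cj hx
    | one => rw [mul_one, mul_inv_cancel]; exact one_mem _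
    | mul x y _ _ ihx ihy =>
      have e : a * (x * y) * a⁻¹ = (a * x * a⁻¹) * (a * y * a⁻¹) := by group
      rw [e]; exact mul_mem ihx ihy
    | inv x _ ih =>
      have e : a * x⁻¹ * a⁻¹ = (a * x * a⁻¹)⁻¹ := by group
      rw [e]; exact inv_mem ih
  · intro h
    apply m.L1
    rw [eq_bot_iff]
    intro x hx
    have h1 : x ∈ closure {x | ∃ k ∈ K, x ∈ cj k L} := Subgroup.subset_closure ⟨1, one_mem _, by rw [cj_one]; exact hx⟩
    rw [h] at h1; exact h1

/-- induction over `N` -/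
theorem N_le {H : Subgroup G} (h : ∀ k ∈ K, cj k L ≤ H) : N ≤ H := by
  rw [m.gen, closure_le]
  rintro x ⟨k, hk, hx⟩
  exact h k hk hx

/-- `L` is simple when it is not abelian -/
theorem nr_of {H : Subgroup G} (hH : H ≤ L) (hn : Nr L H) : Nr N H := by
  have h1 : N ≤ normalizer (H : Set G) := by
    apply m.N_le
    intro k hk x hx
    rcases m.dich1 hk with h | h
    · rw [h] at hx
      rw [mem_normalizer_iff]
      intro y
      refine ⟨fun hy => hn x hx y hy, fun hy => ?_⟩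
      have h2 := hn x⁻¹ (inv_mem hx) _ hy
      have e : x⁻¹ * (x * y * x⁻¹) * x⁻¹⁻¹ = y := by group
      rwa [e] at h2
    · rw [mem_normalizer_iff]
      intro y
      constructor
      · intro hy
        have h2 := h x hx y (hH hy)
        have e : x * y * x⁻¹ = y := by rw [h2, mul_inv_cancel_right]
        rw [e]; exact hy
      · intro hy
        have h2 := h x hx _ (hH hy)
        have e : x * y * x⁻¹ = y := by
          have h3 : x * (x * y * x⁻¹) = x * y := by rw [h2]; group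
          exact mul_left_cancel h3
        rwa [e] at hy
  intro a ha b hb
  exact (mem_normalizer_iff.1 (h1 ha) b).1 hb

theorem simple : IsSimpleGroup L := by
  have : Nontrivial L := (Subgroup.nontrivial_iff_ne_bot L).2 m.L1
  refine ⟨fun H hH => ?_⟩
  by_cases hb : H = ⊥
  · exact Or.inl hb
  right
  have h1 : H.map L.subtype = L := by
    apply m.minL
    · rintro _ ⟨x, _, rfl⟩; exact x.2
    · apply m.nr_of
      · rintro _ ⟨x, _, rfl⟩; exact x.2
      · rintro a ha _ ⟨x, hx, rfl⟩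
        exact ⟨⟨a, ha⟩ * x * (⟨a, ha⟩)⁻¹, hH.conj_mem x hx ⟨a, ha⟩, rfl⟩
    · intro h
      apply hb
      rwa [Subgroup.map_eq_bot_iff_of_injective _ L.subtype_injective] at h
  rw [eq_top_iff]
  intro x _
  have h2 : (x : G) ∈ H.map L.subtype := by rw [h1]; exact x.2
  obtain ⟨y, hy, he⟩ := h2
  have : y = x := Subtype.ext he
  rwa [← this]

/-- `N = L C_N(L)` -/
theorem decomp {x : G} (hx : x ∈ N) : ∃ l ∈ L, ∃ c, (∀ y ∈ L, c * y = y * c) ∧ x = l * c := by
  obtain ⟨P, hP⟩ : ∃ P : Subgroup G, ∀ x, x ∈ P ↔ ∃ l ∈ L, ∃ c, (∀ y ∈ L, c * y = y * c) ∧ x = l * c := by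
    refine ⟨{ carrier := {x | ∃ l ∈ L, ∃ c, (∀ y ∈ L, c * y = y * c) ∧ x = l * c}
              mul_mem' := ?_
              one_mem' := ⟨1, one_mem _, 1, fun y _ => by rw [one_mul, mul_one], by rw [one_mul]⟩
              inv_mem' := ?_ }, fun x => Iff.rfl⟩
    · rintro _ _ ⟨l, hl, c, hc, rfl⟩ ⟨l', hl', c', hc', rfl⟩
      refine ⟨l * l', mul_mem hl hl', c * c', fun y hy => ?_, ?_⟩
      · rw [mul_assoc, hc' y hy, ← mul_assoc, hc y hy, mul_assoc]
      · calc l * c * (l' * c') = l * (c * l') * c' := by group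
          _ = _ := by rw [hc l' hl']; group
    · rintro _ ⟨l, hl, c, hc, rfl⟩
      refine ⟨l⁻¹, inv_mem hl, c⁻¹, fun y hy => ?_, ?_⟩
      · have h : Commute c y := hc y hy
        exact h.inv_left.eq
      · have h : Commute c l := hc l hl
        rw [mul_inv_rev]
        exact h.inv_inv.eq
  rw [← hP]
  refine m.N_le (H := P) (fun k hk x hx => ?_) hx
  rw [hP]
  rcases m.dich1 hk with h | h
  · rw [h] at hx
    exact ⟨x, hx, 1, fun y _ => by rw [one_mul, mul_one], by rw [mul_one]⟩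
  · exact ⟨1, one_mem _, x, fun y hy => h x hx y hy, by rw [one_mul]⟩

end MP


variable {S : Sylow 2 G} {R : Subgroup G} {z u n w : G}

namespace Dat

variable [Finite G] (D : Dat S R z u n w)

include D

theorem nrS {K A : Subgroup G} (hK : (S : Subgroup G) ≤ K) (h : Nr K A) : Nr (S : Subgroup G) A :=
  fun s hs a ha => h s (hK hs) a ha

/-- abelian normal subgroups are trivial -/
theorem abel_bot {K A : Subgroup G} (hK : (S : Subgroup G) ≤ K)
    (hB : ∀ O ≤ K, IsPGroup 2 O → Nr K O → O = ⊥) (hA : A ≤ K) (hn : Nr K A) (hc : Cm A A) : A = ⊥ := by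
  have : Fact (Nat.Prime 2) := ⟨Nat.prime_two⟩
  obtain ⟨O, hO⟩ : ∃ O : Subgroup G, ∀ x, x ∈ O ↔ x ∈ A ∧ x * x = 1 := by
    refine ⟨{ carrier := {x | x ∈ A ∧ x * x = 1}
              mul_mem' := ?_
              one_mem' := ⟨one_mem _, one_mul _⟩
              inv_mem' := ?_ }, fun x => Iff.rfl⟩
    · rintro a b ⟨ha, ha'⟩ ⟨hb, hb'⟩
      refine ⟨mul_mem ha hb, ?_⟩
      calc a * b * (a * b) = a * (b * a) * b := by group
        _ = (a * a) * (b * b) := by rw [hc b hb a ha]; group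
        _ = 1 := by rw [ha', hb', one_mul]
    · rintro a ⟨ha, ha'⟩
      exact ⟨inv_mem ha, by rw [← mul_inv_rev, ha', inv_one]⟩
  have hO2 : IsPGroup 2 O := isPGroup_of_sq fun e he => ((hO e).1 he).2
  have hObot := hB O (fun x hx => hA ((hO x).1 hx).1) hO2 (fun k hk x hx => by
    rw [hO] at hx ⊢
    refine ⟨hn k hk x hx.1, ?_⟩
    calc k * x * k⁻¹ * (k * x * k⁻¹) = k * (x * x) * k⁻¹ := by group
      _ = 1 := by rw [hx.2]; group)
  apply D.odd_bot _ (D.nrS hK hn)
  rw [← Nat.not_even_iff_odd, even_iff_two_dvd]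
  intro h2
  obtain ⟨x, hx⟩ := exists_prime_orderOf_dvd_card' (G := A) 2 h2
  have h3 : (x : G) ∈ O := by
    rw [hO]
    refine ⟨x.2, ?_⟩
    have h4 : x * x = 1 := by rw [← pow_two, ← hx, pow_orderOf_eq_one]
    exact congrArg Subtype.val h4
  rw [hObot, mem_bot] at h3
  have h4 : x = 1 := Subtype.ext h3
  rw [h4, orderOf_one] at hx
  exact absurd hx (by norm_num)

/-- **The case `O_2(K) = 1`: `K` is almost simple** -/
theorem caseB {K : Subgroup G} (hK : (S : Subgroup G) ≤ K) (hB : ∀ O ≤ K, IsPGroup 2 O → Nr K O → O = ⊥) :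
    ∃ L ≤ K, Nr K L ∧ IsSimpleGroup L ∧ (∃ a ∈ L, ∃ b ∈ L, a * b ≠ b * a) ∧
      ∀ x ∈ K, (∀ l ∈ L, x * l = l * x) → x = 1 := by
  have : Fact (Nat.Prime 2) := ⟨Nat.prime_two⟩
  have hK1 : K ≠ ⊥ := by
    intro h
    have h1 := hK D.z_mem
    rw [h, mem_bot] at h1
    exact D.large.z_ne h1
  obtain ⟨N, L0, m0⟩ := exists_MP hK1
  have hNS : Nr (S : Subgroup G) N := D.nrS hK m0.nN
  -- `z ∈ N`
  have hzN : z ∈ N := by
    have h2 : 2 ∣ Nat.card N := by
      rw [← even_iff_two_dvd, ← Nat.not_odd_iff_even]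
      exact fun h => m0.N1 (D.odd_bot h hNS)
    obtain ⟨t, ht⟩ := exists_prime_orderOf_dvd_card' (G := N) 2 h2
    have htt : (t : G) * t = 1 := by
      have h4 : t * t = 1 := by rw [← pow_two, ← ht, pow_orderOf_eq_one]
      exact congrArg Subtype.val h4
    obtain ⟨g, hg, hgt⟩ := exists_conj hK (m0.NK t.2) htt
    have hn' : Nr (S : Subgroup G) (N ⊓ (S : Subgroup G)) := fun s hs x hx =>
      mem_inf.2 ⟨hNS s hs x (mem_inf.1 hx).1, mul_mem (mul_mem hs (mem_inf.1 hx).2) (inv_mem hs)⟩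
    refine (mem_inf.1 (D.z_mem_of (E := N ⊓ (S : Subgroup G)) inf_le_right hn' fun h => ?_)).1
    have h1 : g * t * g⁻¹ ∈ N ⊓ (S : Subgroup G) := mem_inf.2 ⟨m0.nN g hg t t.2, hgt⟩
    rw [h, mem_bot] at h1
    have h3 : (t : G) = 1 := by
      calc (t : G) = g⁻¹ * (g * t * g⁻¹) * g := by group
        _ = 1 := by rw [h1]; group
    have h4 : t = 1 := Subtype.ext h3
    rw [h4, orderOf_one] at ht
    exact absurd ht (by norm_num)
  -- a conjugate of `L0` not centralised by `z`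
  obtain ⟨L, m, hzL⟩ : ∃ L, MP K N L ∧ ¬ ∀ l ∈ L, z * l = l * z := by
    by_contra hcon
    push Not at hcon
    obtain ⟨A, hA⟩ : ∃ A, A = N ⊓ centralizer (N : Set G) := ⟨_, rfl⟩
    have hzA : z ∈ A := by
      rw [hA]
      refine mem_inf.2 ⟨hzN, ?_⟩
      have h1 : N ≤ centralizer {z} := m0.N_le fun k hk x hx =>
        mem_centralizer_singleton_iff.2 (hcon _ (m0.cj_mem hk) x hx).symm
      rw [mem_centralizer_iff]
      intro x hx
      exact mem_centralizer_singleton_iff.1 (h1 hx)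
    have hAb : A = ⊥ := by
      refine D.abel_bot hK hB (hA ▸ inf_le_left.trans m0.NK) ?_ ?_
      · intro k hk x hx
        rw [hA] at hx ⊢
        refine mem_inf.2 ⟨m0.nN k hk x (mem_inf.1 hx).1, ?_⟩
        rw [mem_centralizer_iff]
        intro y hy
        have h1 := m0.nN k⁻¹ (inv_mem hk) y hy
        have h2 := mem_centralizer_iff.1 (mem_inf.1 hx).2 _ h1
        calc y * (k * x * k⁻¹) = k * ((k⁻¹ * y * k⁻¹⁻¹) * x) * k⁻¹ := by group
          _ = k * (x * (k⁻¹ * y * k⁻¹⁻¹)) * k⁻¹ := by rw [h2]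
          _ = _ := by group
      · intro a ha b hb
        rw [hA] at ha hb
        exact mem_centralizer_iff.1 (mem_inf.1 hb).2 _ (mem_inf.1 ha).1
    rw [hAb, mem_bot] at hzA
    exact D.large.z_ne hzA
  -- `L` is not abelian
  have hna : ∃ a ∈ L, ∃ b ∈ L, a * b ≠ b * a := by
    by_contra hcon
    push Not at hcon
    apply m.N1
    refine D.abel_bot hK hB m.NK m.nN ?_
    have h1 : ∀ k ∈ K, ∀ k' ∈ K, Cm (cj k L) (cj k' L) := by
      intro k hk k' hk'
      rcases m.dich hk hk' with h | h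
      · rw [← h]
        intro a ha b hb
        rw [mem_cj] at ha hb
        have h2 := hcon _ ha _ hb
        calc a * b = k * ((k⁻¹ * a * k) * (k⁻¹ * b * k)) * k⁻¹ := by group
          _ = k * ((k⁻¹ * b * k) * (k⁻¹ * a * k)) * k⁻¹ := by rw [h2]
          _ = b * a := by group
      · exact h
    intro a ha b hb
    have h2 : N ≤ centralizer {b} := by
      apply m.N_le
      intro k hk x hx
      rw [mem_centralizer_singleton_iff]
      have h3 : N ≤ centralizer {x} := by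
        apply m.N_le
        intro k' hk' y hy
        rw [mem_centralizer_singleton_iff]
        exact h1 k' hk' k hk y hy x hx
      exact (mem_centralizer_singleton_iff.1 (h3 hb)).symm
    exact mem_centralizer_singleton_iff.1 (h2 ha)
  have hsimp := m.simple
  have hcen : ∀ x ∈ L, (∀ l ∈ L, x * l = l * x) → x = 1 := by
    intro x hx hc
    have h1 : (⟨x, hx⟩ : L) ∈ center L := by
      rw [mem_center_iff]
      intro y
      exact Subtype.ext (hc y y.2).symm
    rcases hsimp.eq_bot_or_eq_top_of_normal (center L) inferInstance with h | h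
    · rw [h, mem_bot] at h1
      exact congrArg Subtype.val h1
    · exfalso
      obtain ⟨a, ha, b, hb, hab⟩ := hna
      have h2 : (⟨b, hb⟩ : L) ∈ center L := by rw [h]; exact mem_top _
      exact hab (congrArg Subtype.val (mem_center_iff.1 h2 ⟨a, ha⟩))
  -- uniqueness of components
  have huniq : ∀ a ∈ L, ∀ a' ∈ L, ∀ b b' : G, (∀ l ∈ L, b * l = l * b) → (∀ l ∈ L, b' * l = l * b') →
      a * b = a' * b' → a = a' := by
    intro a ha a' ha' b b' hb hb' he
    have h1 : a'⁻¹ * a = b' * b⁻¹ := by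
      calc a'⁻¹ * a = a'⁻¹ * (a * b) * b⁻¹ := by group
        _ = b' * b⁻¹ := by rw [he]; group
    have h2 : a'⁻¹ * a = 1 := by
      apply hcen _ (mul_mem (inv_mem ha') ha)
      intro l hl
      rw [h1]
      have c1 : Commute b l := hb l hl
      have c2 : Commute b' l := hb' l hl
      exact (c2.mul_left c1.inv_left).eq
    exact (inv_mul_eq_one.1 h2).symm
  -- the component of `z`
  obtain ⟨z1, hz1, c, hc, hzc⟩ := m.decomp hzN
  have hz11 : z1 ≠ 1 := by
    intro h
    apply hzL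
    rw [hzc, h, one_mul]
    exact hc
  have hz1z1 : z1 * z1 = 1 := by
    have h1 : z1 * z1 * (c * c) = 1 * 1 := by
      calc z1 * z1 * (c * c) = z1 * (z1 * c) * c := by group
        _ = z1 * (c * z1) * c := by rw [hc z1 hz1]
        _ = (z1 * c) * (z1 * c) := by group
        _ = 1 * 1 := by rw [← hzc, D.zz, one_mul]
    refine huniq _ (mul_mem hz1 hz1) 1 (one_mem _) _ 1 (fun l hl => ?_) (fun l _ => by rw [one_mul, mul_one]) h1
    have c1 : Commute c l := hc l hl
    exact (c1.mul_left c1).eq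
  -- conjugation by elements commuting with `z`
  have hconj : ∀ s : G, s * z = z * s → cj s L = L → s * z1 * s⁻¹ = z1 := by
    intro s hs hsL
    have h1 : s * z1 * s⁻¹ ∈ L := by
      have := conj_mem_cj (k := s) hz1
      rwa [hsL] at this
    refine huniq _ h1 _ hz1 (s * c * s⁻¹) c (fun l hl => ?_) hc ?_
    · have h2 : s⁻¹ * l * s ∈ L := by rw [← mem_cj, hsL]; exact hl
      calc s * c * s⁻¹ * l = s * (c * (s⁻¹ * l * s)) * s⁻¹ := by group
        _ = s * ((s⁻¹ * l * s) * c) * s⁻¹ := by rw [hc _ h2]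
        _ = _ := by group
    · calc s * z1 * s⁻¹ * (s * c * s⁻¹) = s * (z1 * c) * s⁻¹ := by group
        _ = s * z * s⁻¹ := by rw [← hzc]
        _ = z := by rw [hs, mul_inv_cancel_right]
        _ = z1 * c := hzc
  -- the conjugates of `z1` under `S`
  have hpair : ∀ s ∈ (S : Subgroup G), ∀ s' ∈ (S : Subgroup G), s * z1 * s⁻¹ * (s' * z1 * s'⁻¹) =
      s' * z1 * s'⁻¹ * (s * z1 * s⁻¹) := by
    intro s hs s' hs'
    rcases m.dich (hK hs) (hK hs') with h | h
    · have h1 : cj (s'⁻¹ * s) L = L := by rw [cj_mul, h, ← cj_mul, inv_mul_cancel, cj_one]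
      have h2 := hconj (s'⁻¹ * s) (D.Sz _ (mul_mem (inv_mem hs') hs)) h1
      have h3 : s * z1 * s⁻¹ = s' * z1 * s'⁻¹ := by
        calc s * z1 * s⁻¹ = s' * (s'⁻¹ * s * z1 * (s'⁻¹ * s)⁻¹) * s'⁻¹ := by group
          _ = _ := by rw [h2]
      rw [h3]
    · exact h _ (conj_mem_cj hz1) _ (conj_mem_cj hz1)
  obtain ⟨T, hT⟩ : ∃ T : Set G, T = {x | ∃ s ∈ (S : Subgroup G), x = s * z1 * s⁻¹} := ⟨_, rfl⟩
  have hcT : ∀ a ∈ T, ∀ b ∈ T, a * b = b * a := by
    rw [hT]
    rintro _ ⟨s, hs, rfl⟩ _ ⟨s', hs', rfl⟩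
    exact hpair s hs s' hs'
  obtain ⟨E, hE⟩ : ∃ E, E = closure T := ⟨_, rfl⟩
  have hTE : T ⊆ E := by rw [hE]; exact Subgroup.subset_closure
  have hEc : ∀ a ∈ E, ∀ b ∈ E, a * b = b * a := by
    have h1 : E ≤ centralizer (E : Set G) := by
      have h2 : E ≤ centralizer T := by
        rw [hE, closure_le]
        intro a ha
        rw [SetLike.mem_coe, mem_centralizer_iff]
        intro b hb
        exact hcT b hb a ha
      have h3 : centralizer (E : Set G) = centralizer T := by rw [hE, centralizer_closure]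
      rw [h3]; exact h2
    intro a ha b hb
    exact (mem_centralizer_iff.1 (h1 ha) b hb).symm
  have hE2 : ∀ a ∈ E, a * a = 1 := by
    intro a ha
    have key : ∀ x ∈ closure T, x ∈ E ∧ x * x = 1 := by
      intro x hx
      induction hx using closure_induction with
      | mem x hx =>
        refine ⟨hTE hx, ?_⟩
        rw [hT] at hx
        obtain ⟨k, _, rfl⟩ := hx
        calc k * z1 * k⁻¹ * (k * z1 * k⁻¹) = k * (z1 * z1) * k⁻¹ := by group
          _ = 1 := by rw [hz1z1]; group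
      | one => exact ⟨one_mem _, one_mul _⟩
      | mul x y _ _ ihx ihy =>
        refine ⟨mul_mem ihx.1 ihy.1, ?_⟩
        calc x * y * (x * y) = x * (y * x) * y := by group
          _ = (x * x) * (y * y) := by rw [hEc y ihy.1 x ihx.1]; group
          _ = 1 := by rw [ihx.2, ihy.2, one_mul]
      | inv x _ ih =>
        refine ⟨inv_mem ih.1, ?_⟩
        rw [← mul_inv_rev, ih.2, inv_one]
    rw [hE] at ha
    exact (key a ha).2
  have hEn : Nr (S : Subgroup G) E := by
    intro k hk v hv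
    rw [hE] at hv
    induction hv using closure_induction with
    | mem x hx =>
      apply hTE
      rw [hT] at hx ⊢
      obtain ⟨k', hk', rfl⟩ := hx
      exact ⟨k * k', mul_mem hk hk', by group⟩
    | one => rw [mul_one, mul_inv_cancel]; exact one_mem _
    | mul x y _ _ ihx ihy =>
      have e : k * (x * y) * k⁻¹ = (k * x * k⁻¹) * (k * y * k⁻¹) := by group
      rw [e]; exact mul_mem ihx ihy
    | inv x _ ih =>
      have e : k * x⁻¹ * k⁻¹ = (k * x * k⁻¹)⁻¹ := by group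
      rw [e]; exact inv_mem ih
  have hES : E ≤ (S : Subgroup G) := le_of_nr (isPGroup_of_sq hE2) hEn
  have hER : E ≤ R := D.ab E hES hEn hE2
  have hz1R : z1 ∈ R := hER (hTE (by rw [hT]; exact ⟨1, one_mem _, by group⟩))
  by_cases hz1z : z1 = z
  · -- `z ∈ L`
    have hzL' : z ∈ L := hz1z ▸ hz1
    obtain ⟨C, hC⟩ : ∃ C, C = K ⊓ centralizer (L : Set G) := ⟨_, rfl⟩
    have memC : ∀ x, x ∈ C ↔ x ∈ K ∧ ∀ l ∈ L, x * l = l * x := by
      intro x
      rw [hC, mem_inf, mem_centralizer_iff]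
      exact ⟨fun h => ⟨h.1, fun l hl => (h.2 l hl).symm⟩, fun h => ⟨h.1, fun l hl => (h.2 l hl).symm⟩⟩
    have hSL : ∀ s ∈ (S : Subgroup G), cj s L = L := by
      intro s hs
      refine (m.dich1 (hK hs)).resolve_right fun h => ?_
      apply D.large.z_ne
      refine hcen z hzL' fun l hl => ?_
      refine h z ?_ l hl
      rw [mem_cj, mul_assoc, ← D.Sz s hs, ← mul_assoc, inv_mul_cancel, one_mul]
      exact hzL'
    have hCz : ∀ x ∈ C, x * z = z * x := fun x hx => ((memC x).1 hx).2 z hzL'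
    have hCn : Nr (S : Subgroup G) C := by
      intro s hs x hx
      rw [memC] at hx ⊢
      refine ⟨mul_mem (mul_mem (hK hs) hx.1) (inv_mem (hK hs)), fun l hl => ?_⟩
      have h2 : s⁻¹ * l * s ∈ L := by rw [← mem_cj, hSL s hs]; exact hl
      calc s * x * s⁻¹ * l = s * (x * (s⁻¹ * l * s)) * s⁻¹ := by group
        _ = s * ((s⁻¹ * l * s) * x) * s⁻¹ := by rw [hx.2 _ h2]
        _ = _ := by group
    have hCR : C ⊓ R = ⊥ := by
      by_contra h
      have h1 : z ∈ C ⊓ R := by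
        refine D.z_mem_of (inf_le_right.trans D.RS) (fun s hs x hx => ?_) h
        exact mem_inf.2 ⟨hCn s hs x (mem_inf.1 hx).1, D.large.conj_mem s (D.Sz s hs) x (mem_inf.1 hx).2⟩
      exact D.large.z_ne (hcen z hzL' ((memC z).1 (mem_inf.1 h1).1).2)
    have hC1 : ∀ x ∈ C, x = 1 := by
      intro x hx
      have h1 : ∀ r ∈ R, x * r = r * x := by
        intro r hr
        have h2 : x * r * x⁻¹ * r⁻¹ ∈ C ⊓ R := by
          refine mem_inf.2 ⟨?_, mul_mem (D.large.conj_mem x (hCz x hx) r hr) (inv_mem hr)⟩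
          have h3 := mul_mem hx (hCn r (D.RS hr) x⁻¹ (inv_mem hx))
          have e : x * (r * x⁻¹ * r⁻¹) = x * r * x⁻¹ * r⁻¹ := by group
          rwa [e] at h3
        rw [hCR, mem_bot] at h2
        calc x * r = x * r * x⁻¹ * r⁻¹ * (r * x) := by group
          _ = r * x := by rw [h2, one_mul]
      have h3 : x ∈ C ⊓ R := mem_inf.2 ⟨hx, D.large.self x (hCz x hx) h1⟩
      rw [hCR, mem_bot] at h3
      exact h3
    refine ⟨L, m.LN.trans m.NK, ?_, hsimp, hna, fun x hx hc => hC1 x ((memC x).2 ⟨hx, hc⟩)⟩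
    intro k hk l hl
    have h1 : cj k L = L := by
      refine (m.dich1 hk).resolve_right fun h => ?_
      apply m.L1
      apply cj_bot (k := k)
      rw [eq_bot_iff]
      intro x hx
      rw [mem_bot]
      exact hC1 x ((memC x).2 ⟨m.NK ((m.cj_mem hk).LN hx), h x hx⟩)
    have h2 := conj_mem_cj (k := k) hl
    rwa [h1] at h2
  · exfalso
    obtain ⟨r, hr, he⟩ := D.exists_r hz1R hz11 hz1z
    have hrK := D.RK hK hr
    have hrL : cj r L ≠ L := by
      intro h
      have h1 := hconj r (D.Rz hr) h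
      rw [he] at h1
      exact D.large.z_ne (mul_eq_left.1 h1)
    have hrC : Cm (cj r L) L := (m.dich1 hrK).resolve_left hrL
    have hz1zc : z1 * z = z * z1 := D.Rz hz1R
    -- `⟨z1, z⟩` is normal in `S`
    have hS2 : ∀ s ∈ (S : Subgroup G), s * z1 * s⁻¹ = z1 ∨ s * z1 * s⁻¹ = z1 * z := by
      intro s hs
      rcases m.dich1 (hK hs) with h | h
      · exact Or.inl (hconj s (D.Sz s hs) h)
      rcases m.dich (hK hs) hrK with h' | h'
      · right
        have h1 : cj (r⁻¹ * s) L = L := by rw [cj_mul, h', ← cj_mul, inv_mul_cancel, cj_one]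
        have h2 := hconj (r⁻¹ * s) (D.Sz _ (mul_mem (inv_mem (D.RS hr)) hs)) h1
        calc s * z1 * s⁻¹ = r * (r⁻¹ * s * z1 * (r⁻¹ * s)⁻¹) * r⁻¹ := by group
          _ = z1 * z := by rw [h2, he]
      · exfalso
        apply hzL
        -- `z = z1 (z1 z)` commutes with `L^s`, hence with `L`
        have h1 : ∀ x ∈ cj s L, x * z = z * x := by
          intro x hx
          have c1 : Commute x z1 := h x hx z1 hz1
          have c2 : Commute x (r * z1 * r⁻¹) := h' x hx _ (conj_mem_cj hz1)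
          have e : z1 * (r * z1 * r⁻¹) = z := by rw [he, ← mul_assoc, hz1z1, one_mul]
          have c3 := c1.mul_right c2
          rw [e] at c3
          exact c3.eq
        intro l hl
        have h2 := h1 _ (conj_mem_cj (k := s) hl)
        have h3 := D.Sz s hs
        have h4 : s⁻¹ * z * s = z := by rw [mul_assoc, ← h3, ← mul_assoc, inv_mul_cancel, one_mul]
        calc z * l = s⁻¹ * (z * (s * l * s⁻¹)) * s := by
              rw [show s⁻¹ * (z * (s * l * s⁻¹)) * s = (s⁻¹ * z * s) * l by group, h4]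
          _ = s⁻¹ * (s * l * s⁻¹ * z) * s := by rw [h2]
          _ = l * (s⁻¹ * z * s) := by group
          _ = l * z := by rw [h4]
    -- so `z1` is conjugate to `z`
    obtain ⟨n', hn', hn'R⟩ : ∃ n' : G, n' * z * n'⁻¹ = z1 ∧ n'⁻¹ * z * n' ∈ R := by
      rcases D.uniq z1 hz1R hS2 with h | h | h | h
      · exact absurd h hz11
      · exact absurd h hz1z
      · exact ⟨n, by rw [h]; exact D.nz, D.nR⟩
      · obtain ⟨r0, hr0, he0⟩ := D.exists_r D.uR D.u1 D.uz
        refine ⟨r0 * n, ?_, ?_⟩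
        · calc r0 * n * z * (r0 * n)⁻¹ = r0 * (n * z * n⁻¹) * r0⁻¹ := by group
            _ = z1 := by rw [D.nz, he0, h]
        · have e : (r0 * n)⁻¹ * z * (r0 * n) = n⁻¹ * (r0⁻¹ * (z * r0)) * n := by group
          rw [e, ← D.Rz hr0]
          have e2 : n⁻¹ * (r0⁻¹ * (r0 * z)) * n = n⁻¹ * z * n := by group
          rw [e2]; exact D.nR
    have mr := m.cj_mem hrK
    -- `cj r L` centralises `z1`
    have hLz1 : ∀ l ∈ cj r L, l * z1 = z1 * l := fun l hl => hrC l hl z1 hz1
    have hcz : ∀ l ∈ cj r L, (n'⁻¹ * l * n') * z = z * (n'⁻¹ * l * n') := by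
      intro l hl
      calc (n'⁻¹ * l * n') * z = n'⁻¹ * (l * (n' * z * n'⁻¹)) * n' := by group
        _ = n'⁻¹ * (z1 * l) * n' := by rw [hn', hLz1 l hl]
        _ = n'⁻¹ * (n' * z * n'⁻¹ * l) * n' := by rw [hn']
        _ = z * (n'⁻¹ * l * n') := by group
    obtain ⟨J, hJ⟩ : ∃ J : Subgroup G, J = cj r L ⊓ cj n' R := ⟨_, rfl⟩
    have hJn : Nr (cj r L) J := by
      intro l hl x hx
      rw [hJ] at hx ⊢
      refine mem_inf.2 ⟨mul_mem (mul_mem hl (mem_inf.1 hx).1) (inv_mem hl), ?_⟩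
      rw [mem_cj]
      have h1 := D.large.conj_mem _ (hcz l hl) _ (mem_cj.1 (mem_inf.1 hx).2)
      have e : n'⁻¹ * (l * x * l⁻¹) * n' = n'⁻¹ * l * n' * (n'⁻¹ * x * n') * (n'⁻¹ * l * n')⁻¹ := by group
      rw [e]; exact h1
    have hJb : J = ⊥ := by
      by_contra h
      have h1 : J = cj r L := by
        apply mr.minL _ (hJ ▸ inf_le_left) _ h
        exact mr.nr_of (hJ ▸ inf_le_left) hJn
      have h2 : IsPGroup 2 (cj r L) := by
        rw [← h1, hJ]
        exact (D.R2.map (MulAut.conj n').toMonoidHom).to_le inf_le_right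
      have h3 : Group.IsNilpotent (cj r L) := h2.isNilpotent
      have h4 : Group.IsSolvable (cj r L) := inferInstance
      have h5 := mr.simple
      have h6 := (IsSimpleGroup.comm_iff_isSolvable (G := cj r L)).2 h4
      obtain ⟨a, ha, b, hb, hab⟩ := hna
      apply hab
      have h7 := congrArg Subtype.val (h6 ⟨_, conj_mem_cj ha⟩ ⟨_, conj_mem_cj hb⟩)
      have h8 : r * a * r⁻¹ * (r * b * r⁻¹) = r * b * r⁻¹ * (r * a * r⁻¹) := h7
      have h9 : r * (a * b) * r⁻¹ = r * (b * a) * r⁻¹ := by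
        calc r * (a * b) * r⁻¹ = r * a * r⁻¹ * (r * b * r⁻¹) := by group
          _ = r * b * r⁻¹ * (r * a * r⁻¹) := h8
          _ = r * (b * a) * r⁻¹ := by group
      exact mul_left_cancel (mul_right_cancel h9)
    have hfin : ∀ l ∈ cj r L, l * z = z * l := by
      intro l hl
      have h1 : l * z * l⁻¹ * z⁻¹ ∈ J := by
        rw [hJ]
        refine mem_inf.2 ⟨?_, ?_⟩
        · -- `z` normalises `cj r L`
          have h2 : z * l⁻¹ * z⁻¹ ∈ cj r L := by
            have h3 : cj z (cj r L) = cj r L := by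
              rw [← cj_mul, ← D.Rz hr, cj_mul]
              congr 1
              refine (m.dich1 (hK D.z_mem)).resolve_right fun h => ?_
              -- z1 commutes with z so z1 ∈ cj z L ⊓ L
              have h4 : z1 ∈ cj z L := by
                rw [mem_cj, mul_assoc, hz1zc, ← mul_assoc, inv_mul_cancel, one_mul]
                exact hz1
              exact hz11 (hcen z1 hz1 fun l hl => h z1 h4 l hl)
            have h4 := conj_mem_cj (k := z) (inv_mem hl)
            rwa [h3] at h4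
          have e : l * (z * l⁻¹ * z⁻¹) = l * z * l⁻¹ * z⁻¹ := by group
          rw [← e]
          exact mul_mem hl h2
        · rw [mem_cj]
          have h2 := mul_mem (D.large.conj_mem _ (hcz l hl) _ hn'R) (inv_mem hn'R)
          have e : n'⁻¹ * l * n' * (n'⁻¹ * z * n') * (n'⁻¹ * l * n')⁻¹ * (n'⁻¹ * z * n')⁻¹ =
              n'⁻¹ * (l * z * l⁻¹ * z⁻¹) * n' := by group
          rwa [e] at h2
      rw [hJb, mem_bot] at h1
      calc l * z = l * z * l⁻¹ * z⁻¹ * (z * l) := by group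
        _ = z * l := by rw [h1, one_mul]
    apply hzL
    intro l hl
    have h2 := hfin _ (conj_mem_cj (k := r) hl)
    have h4 : r⁻¹ * z * r = z := by rw [mul_assoc, ← D.Rz hr, ← mul_assoc, inv_mul_cancel, one_mul]
    calc z * l = r⁻¹ * (z * (r * l * r⁻¹)) * r := by
          rw [show r⁻¹ * (z * (r * l * r⁻¹)) * r = (r⁻¹ * z * r) * l by group, h4]
      _ = r⁻¹ * (r * l * r⁻¹ * z) * r := by rw [h2]
      _ = l * (r⁻¹ * z * r) := by group
      _ = l * z := by rw [h4]

/-- **The main theorem**: `w` normalises every overgroup of `S` not containing `w`. -/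
theorem main (hcent : ∀ K : Subgroup G, (S : Subgroup G) ≤ K → (∀ x ∈ K, x * z = z * x) → w ∉ K →
      ∀ x ∈ K, w * x * w⁻¹ ∈ K)
    (halm : ∀ K L : Subgroup G, (S : Subgroup G) ≤ K → L ≤ K → Nr K L → IsSimpleGroup L →
      (∃ a ∈ L, ∃ b ∈ L, a * b ≠ b * a) → (∀ x ∈ K, (∀ l ∈ L, x * l = l * x) → x = 1) → w ∈ K) :
    ∀ K : Subgroup G, (S : Subgroup G) ≤ K → w ∉ K → ∀ x ∈ K, w * x * w⁻¹ ∈ K := by
  intro K
  obtain ⟨m, hm⟩ : ∃ m, Nat.card K = m := ⟨_, rfl⟩
  induction m using Nat.strong_induction_on generalizing K with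
  | _ m ih =>
    intro hK hwK
    -- the elements of `K` moved into `K` by `w`
    obtain ⟨M, hM⟩ : ∃ M : Subgroup G, M = K ⊓ K.comap (MulAut.conj w).toMonoidHom := ⟨_, rfl⟩
    have memM : ∀ x, x ∈ M ↔ x ∈ K ∧ w * x * w⁻¹ ∈ K := by
      intro x
      rw [hM]
      exact Iff.rfl
    have hHM : ∀ H : Subgroup G, (S : Subgroup G) ≤ H → H < K → H ≤ M := by
      intro H hH hHK x hx
      rw [memM]
      refine ⟨hHK.le hx, hHK.le ?_⟩
      refine ih (Nat.card H) ?_ H rfl hH (fun h => hwK (hHK.le h)) x hx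
      rw [← hm]
      have h1 : Nat.card H ≤ Nat.card K := Nat.card_le_card_of_injective _ (Subgroup.inclusion_injective hHK.le)
      refine lt_of_le_of_ne h1 fun h => hHK.ne ?_
      exact Subgroup.eq_of_le_of_card_ge hHK.le h.ge
    by_cases hKM : K ≤ M
    · intro x hx
      exact ((memM x).1 (hKM hx)).2
    by_cases hnc : ∃ x ∈ K, x * z ≠ z * x
    · by_cases hB : ∀ O ≤ K, IsPGroup 2 O → Nr K O → O = ⊥
      · exfalso
        obtain ⟨L, h1, h2, h3, h4, h5⟩ := D.caseB hK hB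
        exact hwK (halm K L hK h1 h2 h3 h4 h5)
      · push Not at hB
        obtain ⟨O, hO, hO2, hOn, hO1⟩ := hB
        exact D.caseA hK hwK hHM hKM hnc hO2 hOn hO1
    · push Not at hnc
      exact hcent K hK hnc hwK

end Dat

end Cfsg.Agent.H280.HNEngine
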