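import Cfsg.Agent.H280.HNData
import Cfsg.Agent.H280.HNEngineB
import Cfsg.Agent.KFacts.HN.Aut0

/-!
# HN: the Sylow 2-subgroup normalising `⟨W0, z'⟩` (helper280)
-/

set_option autoImplicit false
set_option maxRecDepth 4000

namespace Cfsg.Agent.H280.HNGroup

open Cfsg.Agent.HN Cfsg.Agent.HN.Pres Cfsg.Agent.HN.P1408 Cfsg.Agent.HN.H0Basic Cfsg.Agent.HN.XMat
open Cfsg.Agent.HN.XStruct Cfsg.Agent.HN.XWords Cfsg.Agent.HN.XQuot Cfsg.Agent.HN.XInst
open Cfsg.Agent.KFacts.HN Cfsg.Agent.H280.HNData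
open Cfsg.Agent.KFacts.HN.CentTwoHN (z' n)

/-! ### packed matrices -/

theorem mul_assoc' (P Q' T : ℕ) : XMat.mul (XMat.mul P Q') T = XMat.mul P (XMat.mul Q' T) := by
  apply pack_ext (mul_lt _ _) (mul_lt _ _)
  intro i hi
  rw [row_mul _ _ hi, row_mul _ _ hi, row_mul _ _ hi, app_mul]

theorem MI_mul {P : ℕ} (h : P < 2 ^ 64) : XMat.mul MI P = P := by
  apply pack_ext (mul_lt _ _) h
  intro i hi
  rw [row_mul _ _ hi, row_MI hi, app_pow _ hi]

theorem mul_MI {P : ℕ} (h : P < 2 ^ 64) : XMat.mul P MI = P := by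
  apply pack_ext (mul_lt _ _) h
  intro i hi
  rw [row_mul _ _ hi, app_MI (row_lt _ _)]

theorem mw_append (u v : List ℕ) : mw (u ++ v) = XMat.mul (mw u) (mw v) := by
  induction u with
  | nil => rw [List.nil_append, mw_nil, MI_mul (mw_lt v)]
  | cons g u ih => rw [List.cons_append, mw_cons, mw_cons, ih, mul_assoc']

theorem mem_spec {L : List ℕ} {x : ℕ} : HNData.mem L x = true ↔ x ∈ L := by
  unfold HNData.mem
  rw [List.any_eq_true]
  constructor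
  · rintro ⟨y, hy, h⟩
    rw [← Nat.eq_of_beq_eq_true h]; exact hy
  · intro h
    exact ⟨x, h, Nat.beq_refl x⟩

/-! ### the action on the masks -/

/-- `x ∈ C(W0)` acts by the matrix `P` -/
def AM (x : Cfsg.Spor.HN) (P : ℕ) : Prop := x ∈ PP ∧ P < 2 ^ 64 ∧ Acts k (π W0 x) P

theorem AM.mul {x y : Cfsg.Spor.HN} {P P' : ℕ} (h : AM x P) (h' : AM y P') : AM (x * y) (XMat.mul P P') := by
  refine ⟨PP.mul_mem h.1 h'.1, mul_lt _ _, ?_⟩
  rw [π_mul (mem_PP.1 h.1) (mem_PP.1 h'.1)]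
  exact hyp.toBas.acts_mul h.2.2 h'.2.2

theorem AM.unique {x : Cfsg.Spor.HN} {P P' : ℕ} (h : AM x P) (h' : AM x P') : P = P' :=
  pack_ext h.2.1 h'.2.1 fun _ hi => hyp.toBas.acts_unique h.2.2 h'.2.2 hi

theorem AM_one : AM 1 MI := by
  refine ⟨PP.one_mem, MI_lt, ?_⟩
  rw [π_one]
  exact Bas.acts_one

theorem AM_word (w : List ℕ) : AM (evw Γ w) (mw w) := ⟨e_mem_PP w, mw_lt w, acts_e w⟩

theorem AM_exists {x : Cfsg.Spor.HN} (h : x ∈ PP) : ∃ w, AM x (mw w) := by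
  obtain ⟨w, _, w', _, hA⟩ := exists_acts (π W0 x)
  exact ⟨w ++ w', h, mw_lt _, by rw [mw_append]; exact hA⟩

theorem AM_R {x : Cfsg.Spor.HN} (h : x ∈ RS) : AM x MI := by
  obtain ⟨m, _, b, rfl⟩ := mem_RS.1 h
  refine ⟨RS_le_PP h, MI_lt, ?_⟩
  rw [π_r_sgn]
  have := hyp.toBas.acts_rmul (x := 1) Bas.acts_one m
  rwa [mul_one] at this

theorem mem_R_of_AM {x : Cfsg.Spor.HN} (h : AM x MI) : x ∈ RS := by
  have h1 : π W0 x ∈ XStruct.R hyp.toBas := by
    apply hyp.mem_R_of_comm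
    intro i hi
    have h2 := h.2.2 i hi
    rw [row_MI hi, Bas.r_pow hi] at h2
    calc π W0 x * k i = π W0 x * ((π W0 x)⁻¹ * k i * π W0 x) := by rw [h2]
      _ = k i * π W0 x := by group
  obtain ⟨m, hm, he⟩ := h1
  rw [← π_r] at he
  obtain ⟨b, hb⟩ := eq_of_π (r_mem_PP m) h.1 he.symm
  rw [hb]
  exact mem_RS.2 ⟨m, hm, b, rfl⟩

theorem AM.inv {x : Cfsg.Spor.HN} {P P' : ℕ} (h : AM x P) (hP' : P' < 2 ^ 64) (he : XMat.mul P' P = MI) : AM x⁻¹ P' := by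
  obtain ⟨w, hw⟩ := AM_exists (PP.inv_mem h.1)
  have h1 := h.mul hw
  rw [mul_inv_cancel] at h1
  have h2 := AM_one.unique h1
  have h3 : mw w = P' := by
    calc mw w = XMat.mul MI (mw w) := (MI_mul (mw_lt w)).symm
      _ = XMat.mul (XMat.mul P' P) (mw w) := by rw [he]
      _ = XMat.mul P' (XMat.mul P (mw w)) := mul_assoc' _ _ _
      _ = P' := by rw [← h2, mul_MI hP']
  rwa [h3] at hw

/-- conjugation of the masks -/
theorem AM.conj {u : Cfsg.Spor.HN} {P : ℕ} (h : AM u P) (m : ℕ) :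
    ∃ c : Bool, u⁻¹ * r Q m * u = r Q (app P m) * sgn0 c := r_conj h.1 h.2.2 m

/-! ### the Sylow 2-subgroup -/

theorem L32_lt {P : ℕ} (h : P ∈ L32) : P < 2 ^ 64 := by
  rw [← chkLW] at h
  obtain ⟨w, _, rfl⟩ := List.mem_map.1 h
  exact mw_lt w

theorem L32_mul {P P' : ℕ} (h : P ∈ L32) (h' : P' ∈ L32) : XMat.mul P P' ∈ L32 := by
  have h1 := List.all_eq_true.1 (List.all_eq_true.1 chkMul P h) P' h'
  rw [force_eq] at h1
  exact mem_spec.1 h1

theorem MI_mem : MI ∈ L32 := by decide +kernel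

theorem L32_inv {P : ℕ} (h : P ∈ L32) : ∃ P' ∈ L32, XMat.mul P' P = MI ∧ XMat.mul P P' = MI := by
  have h1 := Nat.eq_of_beq_eq_true (List.all_eq_true.1 chk4 P h)
  refine ⟨XMat.mul P (XMat.mul P P), L32_mul h (L32_mul h h), ?_, ?_⟩
  · rw [mul_assoc', mul_assoc', ← mul_assoc' P P (XMat.mul P P)]
    exact h1
  · rw [← mul_assoc']
    exact h1

/-- the Sylow 2-subgroup -/
def SG : Subgroup Cfsg.Spor.HN where
  carrier := {x | ∃ P ∈ L32, AM x P}
  one_mem' := ⟨MI, MI_mem, AM_one⟩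
  mul_mem' := by
    rintro x y ⟨P, hP, h⟩ ⟨P', hP', h'⟩
    exact ⟨_, L32_mul hP hP', h.mul h'⟩
  inv_mem' := by
    rintro x ⟨P, hP, h⟩
    obtain ⟨P', hP', h1, _⟩ := L32_inv hP
    exact ⟨P', hP', h.inv (L32_lt hP') h1⟩

theorem mem_SG {x : Cfsg.Spor.HN} : x ∈ SG ↔ ∃ P ∈ L32, AM x P := Iff.rfl

theorem SG_le : SG ≤ PP := fun _ ⟨_, _, h⟩ => h.1

theorem RS_le_SG : RS ≤ SG := fun _ hx => ⟨MI, MI_mem, AM_R hx⟩

/-- an element of `SG` with a given matrix -/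
theorem exists_SG {P : ℕ} (h : P ∈ L32) : ∃ x ∈ SG, AM x P := by
  have h' := h
  rw [← chkLW] at h'
  obtain ⟨w, _, rfl⟩ := List.mem_map.1 h'
  exact ⟨evw Γ w, ⟨_, h, AM_word w⟩, AM_word w⟩

theorem pow_four (x : Cfsg.Spor.HN) : x ^ 4 = (x * x) * (x * x) := by
  simp only [pow_succ, pow_zero, one_mul, mul_assoc]

theorem R4 {x : Cfsg.Spor.HN} (h : x ∈ RS) : x ^ 4 = 1 := by
  have h1 : x ^ 4 = (x * x) * (x * x) := pow_four x
  rw [h1]
  rcases large.sq x h with h2 | h2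
  · rw [h2, one_mul]
  · rw [h2, W0_W0]

theorem SG_two : IsPGroup 2 SG := by
  rintro ⟨x, P, hP, h⟩
  refine ⟨4, ?_⟩
  apply Subtype.ext
  change x ^ 2 ^ 4 = 1
  have h1 : AM (x * x * (x * x)) MI := by
    have := (h.mul h).mul (h.mul h)
    rwa [Nat.eq_of_beq_eq_true (List.all_eq_true.1 chk4 P hP)] at this
  have h2 := R4 (mem_R_of_AM h1)
  have e : (2 : ℕ) ^ 4 = 4 * 4 := by norm_num
  have h3 : (x ^ 4) ^ 4 = 1 := by rw [pow_four x]; exact h2
  rw [e, pow_mul, h3]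

/-! ### the cosets -/

theorem CR_lt {c : ℕ} (h : c ∈ CR) : c < 2 ^ 64 := by
  have := List.all_eq_true.1 chkLt c h
  rwa [Nat.blt_eq] at this

theorem MI_CR : MI ∈ CR := by decide +kernel

theorem gen_ge' {g : ℕ} (h : 2 ≤ g) : gen g = gen 2 := gen_ge g h

theorem tab {c : ℕ} (h : c ∈ CR) (g : ℕ) : ∃ s ∈ L32, ∃ c' ∈ CR, XMat.mul c (gen g) = XMat.mul s c' := by
  have key : ∀ g < 3, ∃ s ∈ L32, ∃ c' ∈ CR, XMat.mul c (gen g) = XMat.mul s c' := by
    intro g hg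
    have h1 := List.all_eq_true.1 (List.all_eq_true.1 chkTab c h) g (List.mem_range.2 hg)
    rw [force_eq, List.any_eq_true] at h1
    obtain ⟨t, _, h2⟩ := h1
    rw [Bool.and_eq_true, List.any_eq_true] at h2
    obtain ⟨_, p, _, h3⟩ := h2
    rw [Bool.and_eq_true, Bool.and_eq_true] at h3
    exact ⟨p.1, mem_spec.1 h3.1, p.2, mem_spec.1 h3.2.1, (Nat.eq_of_beq_eq_true h3.2.2).symm⟩
  rcases Nat.lt_or_ge g 3 with hg | hg
  · exact key g hg
  · rw [gen_ge' (by omega)]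
    exact key 2 (by norm_num)

theorem cover_word (w : List ℕ) : ∃ s ∈ L32, ∃ c ∈ CR, mw w = XMat.mul s c := by
  induction w using List.reverseRecOn with
  | nil => exact ⟨MI, MI_mem, MI, MI_CR, by rw [mw_nil, MI_mul MI_lt]⟩
  | append_singleton w g ih =>
    obtain ⟨s, hs, c, hc, he⟩ := ih
    obtain ⟨s', hs', c', hc', he'⟩ := tab hc g
    refine ⟨XMat.mul s s', L32_mul hs hs', c', hc', ?_⟩
    have h1 : mw [g] = gen g := by
      rw [mw_cons, mw_nil]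
      refine mul_MI ?_
      rcases Nat.lt_or_ge g 2 with hg | hg
      · interval_cases g <;> decide +kernel
      · rw [gen_ge' hg]; decide +kernel
    rw [mw_append, he, h1, mul_assoc', he', mul_assoc']

/-- every element of `C(W0)` is `s c` -/
theorem cover {x : Cfsg.Spor.HN} (h : x ∈ PP) : ∃ s ∈ SG, ∃ c ∈ CR, ∃ y, AM y c ∧ x = s * y := by
  obtain ⟨w, hw⟩ := AM_exists h
  obtain ⟨P, hP, c, hc, he⟩ := cover_word w
  obtain ⟨s, hs, hsP⟩ := exists_SG hP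
  obtain ⟨P', hP', h1, h2⟩ := L32_inv hP
  have h3 := (hsP.inv (L32_lt hP') h1).mul hw
  rw [he, ← mul_assoc', h1, MI_mul (CR_lt hc)] at h3
  exact ⟨s, hs, c, hc, _, h3, by group⟩

theorem length_CR : CR.length = 225 := by decide +kernel

/-- `|C(W0)| ≤ 225 |S|` -/
theorem card_PP_le : Nat.card PP ≤ 225 * Nat.card SG := by
  have := finite_HN
  -- representatives
  have hrep : ∀ c : ℕ, ∃ y : Cfsg.Spor.HN, ∀ y', AM y' c → AM y c := by
    intro c
    by_cases h : ∃ y, AM y c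
    · obtain ⟨y, hy⟩ := h
      exact ⟨y, fun _ _ => hy⟩
    · exact ⟨1, fun y' hy' => (h ⟨y', hy'⟩).elim⟩
  choose rep hrep using hrep
  let F : Fin CR.length × SG → Cfsg.Spor.HN := fun a => (a.2 : Cfsg.Spor.HN) * rep (CR.get a.1)
  have hF : ∀ x : PP, ∃ a, F a = x := by
    intro x
    obtain ⟨s, hs, c, hc, y, hy, he⟩ := cover x.2
    obtain ⟨i, hi⟩ := List.mem_iff_get.1 hc
    have h1 := hrep c y hy
    -- `y (rep c)⁻¹ ∈ R`
    have h2 : y * (rep c)⁻¹ ∈ RS := by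
      obtain ⟨w, hw⟩ := AM_exists (PP.inv_mem h1.1)
      have h3 := h1.mul hw
      rw [mul_inv_cancel] at h3
      have h4 := AM_one.unique h3
      have h5 := hy.mul hw
      rw [← h4] at h5
      exact mem_R_of_AM h5
    refine ⟨(i, ⟨s * (y * (rep c)⁻¹), SG.mul_mem hs (RS_le_SG h2)⟩), ?_⟩
    change s * (y * (rep c)⁻¹) * rep (CR.get i) = x
    rw [hi, he]; group
  choose g hg using hF
  have hinj : Function.Injective g := by
    intro x y hxy
    apply Subtype.ext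
    rw [← hg x, ← hg y, hxy]
  have h1 := Nat.card_le_card_of_injective g hinj
  rw [Nat.card_prod, Nat.card_fin, length_CR] at h1
  exact h1

theorem card_SG : Nat.card SG = 2 ^ 14 := by
  have := finite_HN
  obtain ⟨j, hj⟩ := IsPGroup.iff_card.1 SG_two
  have h1 := card_PP_le
  rw [card_PP, hj] at h1
  have h2 : 2 ^ 14 ≤ 2 ^ j := by norm_num; omega
  have h3 : 14 ≤ j := (Nat.pow_le_pow_iff_right (by norm_num)).1 h2
  have h4 : 2 ^ j ∣ Nat.card Cfsg.Spor.HN := by rw [← hj]; exact Subgroup.card_subgroup_dvd_card SG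
  rw [Classes.card_HN] at h4
  have h5 : j ≤ 14 := by
    by_contra h
    have h6 : 2 ^ 15 ∣ 273030912000000 := (Nat.pow_dvd_pow 2 (by omega)).trans h4
    norm_num at h6
  rw [hj, show j = 14 by omega]

instance instFinHN : Finite Cfsg.Spor.HN := finite_HN

/-- the Sylow 2-subgroup -/
noncomputable def SY : Sylow 2 Cfsg.Spor.HN := Sylow.ofCard SG (by rw [Classes.fac2, card_SG])

theorem SY_eq : (SY : Subgroup Cfsg.Spor.HN) = SG := rfl


/-! ### the element `w` -/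

theorem exists_w : ∃ w, AM w Pw ∧ w * z' = z' * w := by
  obtain ⟨h1, _, _, h4⟩ := chkPw
  have hw : AM (evw Γ [1, 1, 1, 2, 1]) Pw := by rw [← h1]; exact AM_word _
  obtain ⟨c, hc⟩ := hw.conj 3
  rw [h4] at hc
  cases c with
  | false =>
    refine ⟨_, hw, ?_⟩
    have h5 : (evw Γ [1, 1, 1, 2, 1])⁻¹ * z' * evw Γ [1, 1, 1, 2, 1] = z' := by
      rw [z', hc]; exact mul_one _
    calc evw Γ [1, 1, 1, 2, 1] * z' = evw Γ [1, 1, 1, 2, 1] *
          ((evw Γ [1, 1, 1, 2, 1])⁻¹ * z' * evw Γ [1, 1, 1, 2, 1]) := by rw [h5]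
      _ = z' * evw Γ [1, 1, 1, 2, 1] := by group
  | true =>
    refine ⟨evw Γ [1, 1, 1, 2, 1] * Q 6, ?_, ?_⟩
    · have h5 := hw.mul (AM_R (Q_mem_RS (i := 6) (by norm_num)))
      rwa [mul_MI hw.2.1] at h5
    · have h5 : (evw Γ [1, 1, 1, 2, 1])⁻¹ * z' * evw Γ [1, 1, 1, 2, 1] = z' * W0 := hc
      have h6 : z' * evw Γ [1, 1, 1, 2, 1] = evw Γ [1, 1, 1, 2, 1] * (z' * W0) := by
        rw [← h5]; group
      have h7 := CentTwoHN.q6_z'
      have h8 := CentTwoHN.z'_comm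
      calc evw Γ [1, 1, 1, 2, 1] * Q 6 * z' = evw Γ [1, 1, 1, 2, 1] * (Q 6 * z') := by group
        _ = evw Γ [1, 1, 1, 2, 1] * (z' * W0) * Q 6 := by rw [h7, h8]; group
        _ = z' * (evw Γ [1, 1, 1, 2, 1] * Q 6) := by rw [← h6]; group

/-- the element of order 3 modulo `R` normalising the Sylow 2-subgroup -/
noncomputable def ww : Cfsg.Spor.HN := exists_w.choose

theorem ww_AM : AM ww Pw := exists_w.choose_spec.1
theorem ww_z' : ww * z' = z' * ww := exists_w.choose_spec.2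
theorem ww_W0 : ww * W0 = W0 * ww := mem_PP.1 ww_AM.1

theorem Pw2_lt : Pw2 < 2 ^ 64 := by decide +kernel

theorem ww_inv : AM ww⁻¹ Pw2 := by
  obtain ⟨_, h2, h3, _⟩ := chkPw
  refine ww_AM.inv Pw2_lt ?_
  rw [← h2, mul_assoc', h2, h3]

theorem ww2 : AM (ww * ww) Pw2 := by
  have h := ww_AM.mul ww_AM
  rwa [chkPw.2.1] at h

theorem ww3 : ww * ww * ww ∈ RS := by
  apply mem_R_of_AM
  obtain ⟨_, h2, h3, _⟩ := chkPw
  have h := (ww_AM.mul ww_AM).mul ww_AM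
  rwa [h2, ← h2, mul_assoc', h2, h3] at h

theorem ww_S {s : Cfsg.Spor.HN} (hs : s ∈ SG) : ww * s * ww⁻¹ ∈ SG := by
  obtain ⟨P, hP, h⟩ := hs
  refine ⟨_, mem_spec.1 (List.all_eq_true.1 chkwS P hP), (ww_AM.mul h).mul ww_inv⟩

/-! ### the four-group -/

theorem z'_mem : z' ∈ RS := r_mem_RS (by norm_num)

/-- elements of `C(W0)` normalising the four-group -/
theorem mask_three {x : Cfsg.Spor.HN} (hx : x ∈ PP) (h : x⁻¹ * z' * x = z' ∨ x⁻¹ * z' * x = z' * W0) :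
    ∃ s ∈ SG, x = s ∨ x = s * ww ∨ x = s * (ww * ww) := by
  obtain ⟨s, hs, c, hc, y, hy, he⟩ := cover hx
  have hs' := hs
  obtain ⟨P, hP, hsP⟩ := hs'
  have hxA := hsP.mul hy
  rw [← he] at hxA
  obtain ⟨b, hb⟩ := hxA.conj 3
  have h1 : app (XMat.mul P c) 3 = 3 := by
    have h2 : r Q (app (XMat.mul P c) 3) * sgn0 b = r Q 3 * sgn0 false ∨
        r Q (app (XMat.mul P c) 3) * sgn0 b = r Q 3 * sgn0 true := by
      rw [← hb]
      rcases h with h | h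
      · left; exact h.trans (mul_one _).symm
      · right; exact h
    rcases h2 with h2 | h2
    · exact (r_sgn_inj (app_lt _ _) (by norm_num) h2).1
    · exact (r_sgn_inj (app_lt _ _) (by norm_num) h2).1
  have h00 : Nat.beq (app P 3) 3 = true := List.all_eq_true.1 chkS3 P hP
  rw [app_mul, Nat.eq_of_beq_eq_true h00] at h1
  have h3 := List.all_eq_true.1 chk3 c hc
  rw [Bool.or_eq_true, Bool.or_eq_true, Bool.or_eq_true, h1] at h3
  rcases h3 with h3 | h3 | h3 | h3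
  · have h4 := Nat.eq_of_beq_eq_true h3
    subst h4
    exact ⟨x, by rw [he]; exact SG.mul_mem hs (RS_le_SG (mem_R_of_AM hy)), Or.inl rfl⟩
  · have h4 := Nat.eq_of_beq_eq_true h3
    subst h4
    have h5 : y * ww⁻¹ ∈ RS := by
      apply mem_R_of_AM
      have h := hy.mul ww_inv
      rwa [chkPw.2.2.1] at h
    exact ⟨s * (y * ww⁻¹), SG.mul_mem hs (RS_le_SG h5), Or.inr (Or.inl (by rw [he]; group))⟩
  · have h4 := Nat.eq_of_beq_eq_true h3
    subst h4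
    have h5 : y * ww ∈ RS := by
      apply mem_R_of_AM
      have h := hy.mul ww_AM
      obtain ⟨_, h6, h7, _⟩ := chkPw
      rwa [← h6, mul_assoc', h6, h7] at h
    have h6 := mul_mem h5 (inv_mem ww3)
    exact ⟨s * (y * ww * (ww * ww * ww)⁻¹), SG.mul_mem hs (RS_le_SG h6), Or.inr (Or.inr (by rw [he]; group))⟩
  · exact absurd h3 (by decide)

end Cfsg.Agent.H280.HNGroup
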