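import Cfsg.Agent.H280.HNPron
import Cfsg.Agent.S0000

/-!
# Pronormality of the subgroups of odd index of HN (helper280)
-/

set_option autoImplicit false

namespace Cfsg.Agent.H280.HNTop

universe u

/-- **HN** -/
theorem po_hn {K : Type u} [Group K] [Finite K] (h : Cfsg.Spor.IsoHN K) : Cfsg.Agent.H408.Pron.PO K :=
  HNPron.po_hn_of (fun L _ _ _ => Cfsg.Agent.S0000.result (G := L)) h

end Cfsg.Agent.H280.HNTop
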