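import Mathlib
import Cfsg.Agent.H526.ObComp
import Cfsg.Agent.H631.ExcFold
import Cfsg.Agent.S2540
import Cfsg.Agent.TwoFusion.SLTwoFacts

/-!
# Groups with a root group datum with more than one 2-block (helper280, for S5004, S5007)

* `nb_of_rgd` : `T` commutative with an element `≠ 1` of odd order, involutions as in `H631/TorusCent`;
* `normalizes` : `S ⊆ T` centralizes `X a`, `X (-a)` and no other root subgroup: the elements of `C(S)` normalize
  `⟨X a, X (-a)⟩`;
* `exists_psl` : the image of `SL₂(E)` covers `PSL₂(E)`.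
-/

set_option autoImplicit false
set_option linter.style.haveILetI false
set_option linter.unusedSectionVars false
open Cfsg

namespace Cfsg.Agent.H280.ObTorus

open CoxeterSystem Cfsg.Agent.ChevalleyStructure.CoxeterGeom Cfsg.Agent.Tits.Roots Cfsg.Agent.Tits.Core
  Cfsg.Agent.Tits.Exchange Cfsg.Agent.Nodes.Reps Cfsg.Agent.Nodes.BNOf Cfsg.Agent.Nodes.StabComb
  Cfsg.Agent.Nodes.Bruhat Cfsg.Agent.Nodes.OppDec Cfsg.Agent.Nodes.RGDLib Cfsg.Agent.GenExc
open Cfsg.Agent.H526.OB Cfsg.Agent.H631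

variable {I W Y : Type*} [Fintype I] [DecidableEq I] [Group W] [Group Y] {M : CoxeterMatrix I}
  {cs : CoxeterSystem M W} {A : I → I → ℤ} {h : IsCartan M A} {p : ℕ} {T : Subgroup Y} {n : I → Y}
  {X : (I → ℤ) → Subgroup Y}

/-- a commutative torus with a nontrivial element of odd order -/
theorem nb_of_rgd [Finite Y] [Finite W] (R : RGD cs h p T n X) (hG : GG cs h T X = ⊤) {z : I → Y}
    (hz : Invols cs h T X z) (hsq : ∀ i, z i * z i = 1) (hT : ∀ a ∈ T, ∀ b ∈ T, a * b = b * a)
    {x : Y} (hx : x ∈ T) (ho : Odd (orderOf x)) (hx1 : x ≠ 1) : NB Y := by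
  have hmem : ∀ y ∈ Subgroup.centralizer ((Subgroup.closure (Set.range z) : Subgroup Y) : Set Y),
      Odd (orderOf y) → y ∈ T := by
    intro y hy hyo
    refine mem_T_of_commute R hG hz (fun i => ?_) hyo (pow_orderOf_eq_one y)
    exact Subgroup.mem_centralizer_iff.1 hy (z i) (Subgroup.subset_closure ⟨i, rfl⟩)
  have hxc : x ∈ Subgroup.centralizer ((Subgroup.closure (Set.range z) : Subgroup Y) : Set Y) := by
    rw [Subgroup.mem_centralizer_iff]
    have h1 : Subgroup.closure (Set.range z) ≤ Subgroup.centralizer ({x} : Set Y) := by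
      rw [Subgroup.closure_le]
      rintro _ ⟨i, rfl⟩
      rw [SetLike.mem_coe, Subgroup.mem_centralizer_iff]
      rintro _ rfl
      exact hT _ hx _ (hz.mem i)
    intro y hy
    exact ((Subgroup.mem_centralizer_iff.1 (h1 hy)) x rfl).symm
  exact NB.of_odd_elements (Subgroup.closure (Set.range z))
    (isPGroup_closure z hsq fun i j => hT _ (hz.mem i) _ (hz.mem j))
    (fun a ha b hb hao hbo => hT a (hmem a ha hao) b (hmem b hb hbo)) hxc ho hx1

/-- `S ⊆ T` centralizes `X a`, `X (-a)` and no nontrivial element of another root subgroup. -/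
theorem normalizes [Finite W] (R : RGD cs h p T n X) (hG : GG cs h T X = ⊤) {S : Set Y} (hS : S ⊆ T)
    {a : I → ℤ} (ha : IsRoot cs h a) (hna : IsRoot cs h (-a)) (h1 : X a ≤ Subgroup.centralizer S)
    (h2 : X (-a) ≤ Subgroup.centralizer S)
    (h3 : ∀ x, IsRoot cs h x → x ≠ a → x ≠ -a → ∀ u ∈ X x, u ∈ Subgroup.centralizer S → u = 1)
    {y : Y} (hy : y ∈ Subgroup.centralizer S) :
    ∀ k ∈ X a ⊔ X (-a), y * k * y⁻¹ ∈ X a ⊔ X (-a) := by
  have hle : ∀ x, IsRoot cs h x → X x ⊓ Subgroup.centralizer S ≤ X a ⊔ X (-a) := by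
    intro x hx
    by_cases e1 : x = a
    · rw [e1]; exact inf_le_left.trans le_sup_left
    · by_cases e2 : x = -a
      · rw [e2]; exact inf_le_left.trans le_sup_right
      · intro u hu
        rw [h3 x hx e1 e2 u hu.1 hu.2]
        exact one_mem _
  have hsup : RGD.Sup (fun x => X x ⊓ Subgroup.centralizer S) (RGD.Pos cs h) ≤ X a ⊔ X (-a) :=
    RGD.Sup_le fun x hx => hle x hx.1
  obtain ⟨u, hu, w, k, hk, hkS, v, hv, rfl⟩ := Cfsg.Agent.Nodes.NormalForm.mem_centralizer R hS
    (by rw [hG]; trivial) hy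
  have hroot : ∀ b, IsRoot cs h b → X b ≤ Subgroup.centralizer S → X b ≤ X a ⊔ X (-a) := by
    intro b hb hbc
    exact (le_inf le_rfl hbc).trans (hle b hb)
  have hcj : ∀ b, IsRoot cs h b → X b ≤ Subgroup.centralizer S → ∀ c ∈ X b, k * c * k⁻¹ ∈ X a ⊔ X (-a) := by
    intro b hb hbc c hc
    have e := R.conj_rp hk hb
    refine hroot (rep cs h w b) (hb.act w) ?_ ?_
    · rw [← e]
      intro d hd
      obtain ⟨d', hd', rfl⟩ : ∃ d' ∈ X b, d = k * d' * k⁻¹ := by
        rw [mem_cj] at hd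
        exact ⟨_, hd, by group⟩
      exact mul_mem (mul_mem hkS (hbc hd')) (inv_mem hkS)
    · rw [← e]; exact conj_mem_cj.2 hc
  have hu' := hsup hu
  have hv' := hsup hv
  have hk' : ∀ c ∈ X a ⊔ X (-a), k * c * k⁻¹ ∈ X a ⊔ X (-a) := by
    have hle2 : X a ⊔ X (-a) ≤ (X a ⊔ X (-a)).comap (MulAut.conj k).toMonoidHom := by
      refine sup_le ?_ ?_
      · intro c hc
        exact hcj a ha h1 c hc
      · intro c hc
        exact hcj (-a) hna h2 c hc
    intro c hc
    exact hle2 hc
  intro c hc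
  have e : u * k * v * c * (u * k * v)⁻¹ = u * (k * (v * c * v⁻¹) * k⁻¹) * u⁻¹ := by group
  rw [e]
  exact mul_mem (mul_mem hu' (hk' _ (mul_mem (mul_mem hv' hc) (inv_mem hv')))) (inv_mem hu')

/-- the image of `SL₂(E)`, `|E| > 3`, under a homomorphism which is nontrivial on `up` -/
theorem exists_psl {Y : Type*} [Group Y] {E : Type*} [Field E] [Fintype E] (hE : 3 < Fintype.card E)
    (φ : Matrix.SpecialLinearGroup (Fin 2) E →* Y) (g : Matrix.SpecialLinearGroup (Fin 2) E) (hg : φ g ≠ 1) :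
    ∃ f : φ.range →* Matrix.ProjectiveSpecialLinearGroup (Fin 2) E, Function.Surjective f ∧
      f.ker ≤ Subgroup.center φ.range := by
  have hs := Cfsg.Agent.TwoFusion.SLTwoFacts.isSimpleGroup_psl hE
  have hp := Cfsg.Agent.TwoFusion.SLTwoFacts.commutator_eq_top hE
  have hk : φ.ker ≤ Subgroup.center (Matrix.SpecialLinearGroup (Fin 2) E) := by
    rcases Cfsg.Agent.S2540.normal_dichotomy hp hs φ.ker with h | h
    · exact h
    · exfalso
      apply hg
      have : g ∈ φ.ker := by rw [h]; trivial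
      exact this
  let e := QuotientGroup.quotientKerEquivRange φ
  let f0 : Matrix.SpecialLinearGroup (Fin 2) E ⧸ φ.ker →* Matrix.ProjectiveSpecialLinearGroup (Fin 2) E :=
    QuotientGroup.map φ.ker (Subgroup.center (Matrix.SpecialLinearGroup (Fin 2) E)) (MonoidHom.id _) hk
  have hf0 : Function.Surjective f0 := by
    intro y
    induction y using QuotientGroup.induction_on with
    | H y => exact ⟨(y : _ ⧸ φ.ker), rfl⟩
  refine ⟨f0.comp e.symm.toMonoidHom, hf0.comp e.symm.surjective, ?_⟩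
  intro x hx
  obtain ⟨y, rfl⟩ := e.surjective x
  induction y using QuotientGroup.induction_on with
  | H y =>
    have h1 : f0 (y : _ ⧸ φ.ker) = 1 := by
      have h2 : f0 (e.symm (e (y : _ ⧸ φ.ker))) = 1 := hx
      rwa [MulEquiv.symm_apply_apply] at h2
    have h3 : y ∈ Subgroup.center (Matrix.SpecialLinearGroup (Fin 2) E) := by
      have h4 : ((y : Matrix.SpecialLinearGroup (Fin 2) E) : Matrix.ProjectiveSpecialLinearGroup (Fin 2) E) = 1 := h1
      exact (QuotientGroup.eq_one_iff y).1 h4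
    rw [Subgroup.mem_center_iff]
    intro w
    obtain ⟨w, rfl⟩ := e.surjective w
    induction w using QuotientGroup.induction_on with
    | H w =>
      rw [← map_mul, ← map_mul, ← QuotientGroup.mk_mul, ← QuotientGroup.mk_mul, Subgroup.mem_center_iff.1 h3 w]

end Cfsg.Agent.H280.ObTorus
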