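import Mathlib
import Cfsg.Agent.H280.ObTorus

/-!
# `³D₄(q)`, `²E₆(q)`, `q` odd, have more than one 2-block (helper280, for S5004, S5007)
-/

set_option autoImplicit false
set_option linter.style.haveILetI false
set_option linter.unusedSectionVars false
open Cfsg

namespace Cfsg.Agent.H280.ObFold

open CoxeterSystem Cfsg.Agent.ChevalleyStructure.CoxeterGeom Cfsg.Agent.Tits.Roots Cfsg.Agent.Tits.Core
  Cfsg.Agent.Nodes.Reps Cfsg.Agent.Nodes.BNOf Cfsg.Agent.Nodes.RGDTwGen Cfsg.Agent.Nodes.RGDChev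
  Cfsg.Agent.Nodes.RGDFold Cfsg.Agent.Nodes.RGDFoldSL Cfsg.Agent.Nodes.RGDTwCoord
open Cfsg.Lie Cfsg.Agent.ChevalleyStructure Cfsg.Agent.ChevalleyStructure.Elts
  Cfsg.Agent.ChevalleyStructure.TwistedU
open Cfsg.Agent.OddHalf.NI
open Cfsg.Agent.ChevalleyStructure.SL2Hom (up lo)
open Cfsg.Agent.H526.OB Cfsg.Agent.H631 Cfsg.Agent.H631.ExcFold Cfsg.Agent.H280.ObTorus

/-- `diag (a, a⁻¹)` is nontrivial in a representation of `SL₂` which is injective on `up`, if `a² ≠ 1`. -/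
theorem map_dg_ne {Y : Type*} [Group Y] {E : Type} [Field E] (φ : Matrix.SpecialLinearGroup (Fin 2) E →* Y)
    (hφ : ∀ t : E, φ (up t) = 1 → t = 0) {a : Eˣ} (ha : a ^ 2 ≠ 1) : φ (Mult.dg a) ≠ 1 := by
  intro h1
  have h2 : Mult.dg a * up (1 : E) = up ((a : E) ^ 2) * Mult.dg a := by
    apply sl_ext
    refine (Matrix.SpecialLinearGroup.coe_mul _ _).trans ?_
    refine Eq.trans ?_ (Matrix.SpecialLinearGroup.coe_mul _ _).symm
    change (!![(a : E), 0; 0, ((a⁻¹ : Eˣ) : E)]) * !![1, 1; 0, 1] =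
      !![1, (a : E) ^ 2; 0, 1] * (!![(a : E), 0; 0, ((a⁻¹ : Eˣ) : E)])
    ext i j
    fin_cases i <;> fin_cases j <;> simp [Matrix.mul_apply, Fin.sum_univ_two, pow_two]
  have h3 : φ (up (1 : E)) = φ (up ((a : E) ^ 2)) := by
    have := congrArg φ h2
    rwa [map_mul, map_mul, h1, one_mul, mul_one] at this
  have h4 : up ((a : E) ^ 2 - 1) * up (1 : E) = up ((a : E) ^ 2) := by
    apply sl_ext
    refine (Matrix.SpecialLinearGroup.coe_mul _ _).trans ?_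
    change (!![1, (a : E) ^ 2 - 1; 0, 1] : Matrix (Fin 2) (Fin 2) E) * !![1, 1; 0, 1] = !![1, (a : E) ^ 2; 0, 1]
    ext i j
    fin_cases i <;> fin_cases j <;> simp [Matrix.mul_apply, Fin.sum_univ_two]
  have h5 : φ (up ((a : E) ^ 2 - 1)) = 1 := by
    have := congrArg φ h4
    rw [map_mul, ← h3] at this
    exact mul_eq_right.1 this
  have h6 : (a : E) ^ 2 = 1 := sub_eq_zero.1 (hφ _ h5)
  exact ha (Units.ext (by rw [Units.val_pow_eq_pow_val, h6, Units.val_one]))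

section Main

variable {D : ChevalleyDatum} {l : ℕ} {M' : CoxeterMatrix (Fin l)} {hp : IsType D l M'} {K : Type} [Field K]
  {m : ℕ} {M : CoxeterMatrix (Fin m)} {A : Fin m → Fin m → ℤ}
  {J : Fin m → List (Fin l)} {L : List (List ℕ)} {σ : GL D.Idx K →* GL D.Idx K} {ρ ρ' : ℕ → ℕ}
    {f : ℕ → K → K} {G : Subgroup (GL D.Idx K)} {rep' : Fin m → ℕ} {rest : Fin m → List ℕ} {φ : K →+* K}
  (FG : FoldGrp hp K J L σ ρ ρ' f G)
  (N : ∀ i, NodeOK D J L ρ i (rep' i) (rest i)) (hf : ∀ i, ∀ s ∈ rep' i :: rest i, ∀ t, f s t = φ t)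
  (h : IsCartan M A) (FD : FoldData D M A J L)

include h FD FG N hf in
theorem nb_fold [Fintype K] (C : Chk D J A) (hK : Odd (Fintype.card K)) (i0 : Fin m)
    (hφ : ∀ x, φ^[(rest i0).length + 1] x = x)
    (q : ℕ) [hq : Fact q.Prime] (hq2 : q ≠ 2) (hd : q ∣ Fintype.card K - 1) : NB ↥G := by
  classical
  obtain ⟨p, hpr, hcp⟩ : ∃ p : ℕ, p.Prime ∧ CharP K p := by
    obtain ⟨p, hcp⟩ := CharP.exists K
    exact ⟨p, CharP.char_is_prime K p, hcp⟩
  haveI : Fact p.Prime := ⟨hpr⟩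
  let cs : CoxeterSystem M M.Group := M.toCoxeterSystem
  have hW : Finite M.Group := Cfsg.Agent.Nodes.RGDFold.finite_W (hp := hp) cs h FD
  have R := Cfsg.Agent.Nodes.RGDFold.rgd cs h FD FG p
  have hGG := Cfsg.Agent.KFacts.RgdRigid.GG_eq_top (cs := cs) (h := h) (T := (D.diagonalSubgroup K ⊓ G).subgroupOf G)
    (X := fun z => (Cfsg.Agent.Nodes.RGDFold.R D hp K J σ z).subgroupOf G) (Cfsg.Agent.Nodes.RGDFold.G1_eq_top cs h FD FG p)
  have hp2 : p ≠ 2 := charP_ne_two (F := K) hK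
  -- the fixed field is everything
  have htop : ∀ x : K, x ∈ Fx φ ((rest i0).length + 1) := fun x => mem_Fx.2 (hφ x)
  let E := Fx φ ((rest i0).length + 1)
  haveI : Fintype E := Fintype.ofFinite _
  have hcard : Fintype.card E = Fintype.card K :=
    Fintype.card_congr (Equiv.subtypeUnivEquiv htop)
  have hTc : ∀ a ∈ (D.diagonalSubgroup K ⊓ G).subgroupOf G, ∀ b ∈ (D.diagonalSubgroup K ⊓ G).subgroupOf G,
      a * b = b * a := fun a ha b hb =>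
    congrArg Subtype.val (ModelTw.comm_TG (hp := hp) (⟨a, ha⟩ : ↥(ModelTw.TG D G)) ⟨b, hb⟩)
  have hc : q ∣ Fintype.card Eˣ := by rwa [Fintype.card_units, hcard]
  obtain ⟨a, ha⟩ := exists_prime_orderOf_dvd_card q hc
  have ha2 : a ^ 2 ≠ 1 := by
    intro h7
    have h8 : orderOf a ∣ 2 := orderOf_dvd_of_pow_eq_one h7
    rw [ha] at h8
    rcases (Nat.dvd_prime Nat.prime_two).1 h8 with h9 | h9
    · exact hq.out.one_lt.ne' h9
    · exact hq2 h9
  have hinj : ∀ t : E, Phi FG (N i0) (hf i0) (up t) = 1 → t = 0 := by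
    intro t ht
    apply Phi_up_injective FG (N i0) (hf i0)
    show Phi FG (N i0) (hf i0) (up t) = Phi FG (N i0) (hf i0) (up 0)
    rw [ht]
    have : (up (0 : E) : Matrix.SpecialLinearGroup (Fin 2) E) = 1 := by
      apply sl_ext
      ext i j
      fin_cases i <;> fin_cases j <;> rfl
    rw [this, map_one]
  have hx1 := map_dg_ne (Phi FG (N i0) (hf i0)) hinj ha2
  have hxo : Odd (orderOf (Phi FG (N i0) (hf i0) (Mult.dg a))) := by
    have h1 : orderOf (Phi FG (N i0) (hf i0) (Mult.dg a)) ∣ q := by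
      rw [← ha]
      have h2 : Mult.dg a = Mult.dgHom a := rfl
      rw [h2]
      exact (orderOf_map_dvd _ _).trans (orderOf_map_dvd _ _)
    exact (hq.out.odd_of_ne_two hq2).of_dvd_nat h1
  exact nb_of_rgd R hGG (invols FG N hf FD C p hp2 (by rw [map_neg, map_one])) (zF_sq FG N hf) hTc
    (ModelTw.Phi_dg_mem FG N hf i0 a) hxo hx1

end Main

/-- a prime `≠ 2` dividing `n`, if `n` is not a power of two -/
theorem exists_odd_prime {n m : ℕ} (hm : Odd m) (hm1 : 1 < m) (hd : m ∣ n) : ∃ q : ℕ, q.Prime ∧ q ≠ 2 ∧ q ∣ n := by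
  obtain ⟨q, hq, hqm⟩ := Nat.exists_prime_and_dvd hm1.ne'
  refine ⟨q, hq, ?_, hqm.trans hd⟩
  rintro rfl
  exact (Nat.not_even_iff_odd.2 hm) (even_iff_two_dvd.2 hqm)

/-- **`³D₄(q)`, `q` odd.** -/
theorem nb_3d4 {K : Type} [Field K] [Fintype K] {q : ℕ} (hq : IsPrimePow q) (h2 : Odd q)
    (hK : Fintype.card K = q ^ 3) : NB ↥(twistedD4 K q) := by
  obtain ⟨φ, hφ⟩ := D4Fixed.exists_frob hq hK
  have hf : ∀ i, ∀ s ∈ Cfsg.Agent.Nodes.RGDTwNode.D4.rep i :: Cfsg.Agent.Nodes.RGDTwNode.D4.rest i, ∀ t : K,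
      ((Cfsg.Agent.Nodes.RGDTwD4.eps s : ℤ) : K) * φ t = φ t := fun i s hs t => by
    rw [Cfsg.Agent.Nodes.RGDTwNode.D4.eps_one i s hs, Int.cast_one, one_mul]
  have hq1 : 1 < q := hq.one_lt
  obtain ⟨r, hr, hr2, hrd⟩ : ∃ r : ℕ, r.Prime ∧ r ≠ 2 ∧ r ∣ Fintype.card K - 1 := by
    refine exists_odd_prime (m := q ^ 2 + q + 1) ?_ (by nlinarith) ?_
    · obtain ⟨c, rfl⟩ := h2
      exact ⟨2 * c ^ 2 + 3 * c + 1, by ring⟩
    · rw [hK]
      obtain ⟨c, rfl⟩ : ∃ c, q = c + 1 := ⟨q - 1, by omega⟩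
      refine ⟨c, ?_⟩
      have : (c + 1) ^ 3 = ((c + 1) ^ 2 + (c + 1) + 1) * c + 1 := by ring
      omega
  haveI : Fact r.Prime := ⟨hr⟩
  refine nb_fold (Cfsg.Agent.Nodes.RGDTwD4.foldGrp hφ (D4Fixed.twisted_le_fix hK hφ))
    Cfsg.Agent.Nodes.RGDTwNode.D4.nodeOK hf Cfsg.Agent.Nodes.RGDTwD4.isCartan
    Cfsg.Agent.Nodes.RGDTwD4.foldData chk_D4 (by rw [hK]; exact h2.pow) 1 ?_ r hr2 hrd
  intro t
  show φ (φ (φ t)) = t
  rw [hφ, hφ, hφ, ← pow_mul, ← pow_mul]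
  have : q * (q * q) = q ^ 3 := by ring
  rw [this, ← hK]
  exact FiniteField.pow_card t

/-- **`²E₆(q)`, `q ≠ 3` odd.** -/
theorem nb_2e6_ne {K : Type} [Field K] [Fintype K] {q : ℕ} (hq : IsPrimePow q) (h2 : Odd q) (h3 : q ≠ 3)
    (hK : Fintype.card K = q ^ 2) : NB ↥(twistedE6 K q) := by
  obtain ⟨φ, hφ, hqq⟩ := TwE6Basic.exists_frob hq hK
  have hf : ∀ i, ∀ s ∈ Cfsg.Agent.Nodes.RGDTwNode.E6.rep i :: Cfsg.Agent.Nodes.RGDTwNode.E6.rest i, ∀ t : K,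
      ((TwistedE6Sigma.eps s : ℤ) : K) * φ t = φ t := fun i s hs t => by
    rw [Cfsg.Agent.Nodes.RGDTwNode.E6.eps_one i s hs, Int.cast_one, one_mul]
  have hq1 : 1 < q := hq.one_lt
  obtain ⟨r, hr, hr2, hrd⟩ : ∃ r : ℕ, r.Prime ∧ r ≠ 2 ∧ r ∣ Fintype.card K - 1 := by
    by_contra hcon
    push Not at hcon
    obtain ⟨c, hc⟩ := h2
    have hc1 : 2 ≤ c := by omega
    -- `c` or `c + 1` is odd
    have e1 : Fintype.card K - 1 = 4 * (c * (c + 1)) := by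
      rw [hK, hc]
      have : (2 * c + 1) ^ 2 = 4 * (c * (c + 1)) + 1 := by ring
      omega
    rcases Nat.even_or_odd c with he | ho
    · obtain ⟨r, h4, h5, h6⟩ := exists_odd_prime (n := Fintype.card K - 1) (m := c + 1) he.add_one (by omega)
        (by rw [e1]; exact (Dvd.intro_left c rfl).mul_left 4)
      exact hcon r h4 h5 h6
    · obtain ⟨r, h4, h5, h6⟩ := exists_odd_prime (n := Fintype.card K - 1) (m := c) ho (by omega)
        (by rw [e1]; exact (Dvd.intro (c + 1) rfl).mul_left 4)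
      exact hcon r h4 h5 h6
  haveI : Fact r.Prime := ⟨hr⟩
  refine nb_fold (Cfsg.Agent.Nodes.RGDTwE6.foldGrp hφ hqq)
    Cfsg.Agent.Nodes.RGDTwNode.E6.nodeOK hf Cfsg.Agent.Nodes.RGDTwE6.isCartan
    Cfsg.Agent.Nodes.RGDTwE6.foldData chk_E6 (by rw [hK]; exact h2.pow) 2 ?_ r hr2 hrd
  intro t
  show φ (φ t) = t
  rw [hφ, hφ]
  exact hqq t

end Cfsg.Agent.H280.ObFold
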