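import Mathlib
import Cfsg.Agent.H526.ObComp
import Cfsg.Agent.H631.ReeRow

/-!
# The small Ree groups have more than one 2-block (helper280, for S5004, S5007)
-/

set_option autoImplicit false
set_option linter.style.haveILetI false
set_option linter.unusedSectionVars false
open Cfsg

namespace Cfsg.Agent.H280.ObRee

open Subgroup Cfsg.Agent.H526.OB

universe u

/-- `Z × P`, `Z` commutative -/
theorem nb_prod {Z P : Type*} [CommGroup Z] [Group P] [Finite Z] [Finite P] (h : NB P) : NB (Z × P) := by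
  refine NB.of_surjective (MonoidHom.snd Z P) (fun p => ⟨(1, p), rfl⟩) ?_ h
  rintro ⟨z, p⟩ hz
  have hp : p = 1 := hz
  rw [Subgroup.mem_center_iff]
  rintro ⟨z', p'⟩
  rw [hp]
  show (z' * z, p' * 1) = (z * z', 1 * p')
  rw [mul_comm z' z, mul_one, one_mul]

/-- **The small Ree groups.** -/
theorem nb_ree {S : Type u} [Group S] [Finite S] (h : Cfsg.Lie.IsoRee S)
    (hpsl2 : ∀ (K : Type) [Field K] [Fintype K], Odd (Fintype.card K) → 3 < Fintype.card K →
      NB (Matrix.ProjectiveSpecialLinearGroup (Fin 2) K)) : NB S := by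
  classical
  obtain ⟨K, i1, i2, m, hm, hK, ⟨e⟩⟩ := h
  have hfin : Finite ↥(Cfsg.Lie.twistedG2 K (3 ^ m)) := Finite.of_equiv S e.toEquiv
  refine NB.iso e.symm ?_
  obtain ⟨a, haH, ha1, ha2⟩ := Cfsg.Agent.S1157.exists_involution hK
  obtain ⟨⟨f⟩, hS⟩ := Cfsg.Agent.S1152.result hK a haH ha1 ha2
  have hq27 : 27 ≤ 3 ^ (2 * m + 1) := by
    calc 27 = 3 ^ 3 := by norm_num
      _ ≤ 3 ^ (2 * m + 1) := Nat.pow_le_pow_right (by norm_num) (by omega)
  refine NB.of_centralizer_singleton a ⟨1, by rw [pow_one, sq, ha2]⟩ ?_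
  refine NB.iso f.symm ?_
  have hP : NB (Matrix.ProjectiveSpecialLinearGroup (Fin 2) K) :=
    hpsl2 K (by rw [hK]; exact Odd.pow (by decide)) (by rw [hK]; omega)
  exact nb_prod hP

end Cfsg.Agent.H280.ObRee
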