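import Mathlib
import Cfsg.Agent.H280.ObFold

/-!
# `²E₆(3)` has more than one 2-block (helper280, for S5004, S5007)

`S = {h_1(-1), h_0(-1) h_2(-1) h_3(i)}` centralizes the root subgroups `X (± sr 3)` and no other root subgroup.
-/

set_option autoImplicit false
set_option linter.style.haveILetI false
set_option linter.unusedSectionVars false
open Cfsg

namespace Cfsg.Agent.H280.ObTwE

open CoxeterSystem Cfsg.Agent.ChevalleyStructure.CoxeterGeom Cfsg.Agent.Tits.Roots Cfsg.Agent.Tits.Core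
  Cfsg.Agent.Nodes.Reps Cfsg.Agent.Nodes.BNOf Cfsg.Agent.Nodes.RGDTwGen Cfsg.Agent.Nodes.RGDChev
  Cfsg.Agent.Nodes.RGDFold Cfsg.Agent.Nodes.RGDFoldSL Cfsg.Agent.Nodes.RGDTwCoord
open Cfsg.Lie Cfsg.Agent.ChevalleyStructure Cfsg.Agent.ChevalleyStructure.Elts
  Cfsg.Agent.ChevalleyStructure.TwistedU
open Cfsg.Agent.OddHalf.NI
open Cfsg.Agent.ChevalleyStructure.SL2Hom (up lo mem_closure_SL2)
open Cfsg.Agent.H526.OB Cfsg.Agent.H631 Cfsg.Agent.H631.ExcFold Cfsg.Agent.H280.ObTorus Cfsg.Agent.H280.ObFold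

section Gen

variable {D : ChevalleyDatum} {l : ℕ} {M' : CoxeterMatrix (Fin l)} {hp : IsType D l M'} {K : Type} [Field K]
  {m : ℕ} {M : CoxeterMatrix (Fin m)} {A : Fin m → Fin m → ℤ}
  {J : Fin m → List (Fin l)} {L : List (List ℕ)} {σ : GL D.Idx K →* GL D.Idx K} {ρ ρ' : ℕ → ℕ}
    {f : ℕ → K → K} {G : Subgroup (GL D.Idx K)} {rep' : Fin m → ℕ} {rest : Fin m → List ℕ} {φ : K →+* K}
  (FG : FoldGrp hp K J L σ ρ ρ' f G)
  (N : ∀ i, NodeOK D J L ρ i (rep' i) (rest i)) (hf : ∀ i, ∀ s ∈ rep' i :: rest i, ∀ t, f s t = φ t)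

variable {W : Type*} [Group W] {cs : CoxeterSystem M W} {h : IsCartan M A} (FD : FoldData D M A J L)

include FG FD in
/-- an element inverting the root elements of a class centralizes no nontrivial element of the root subgroup -/
theorem eq_one_of_inv [Finite K] (C : Chk D J A) (p : ℕ) [Fact p.Prime] [CharP K p] (hp2 : p ≠ 2)
    {x : Fin m → ℤ} (hx : IsRoot cs h x) {t : ↥G}
    (hxG : ∀ r, r < D.nroots → V D J r = x → ∀ u : K,
        (t : GL D.Idx K) * xG hp.inList r u * (t : GL D.Idx K)⁻¹ = (xG hp.inList r u)⁻¹)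
    {u : ↥G} (hu : u ∈ (R D hp K J σ x).subgroupOf G) (hc : t * u = u * t) : u = 1 := by
  have hW : Finite W := Cfsg.Agent.Nodes.RGDFold.finite_W (hp := hp) cs h FD
  have RG := Cfsg.Agent.Nodes.RGDFold.rgd cs h FD FG p
  have hcomm : ∀ a ∈ rspan (xG (F := K) hp.inList) {k | k < D.nroots ∧ V D J k = x},
      ∀ b ∈ rspan (xG (F := K) hp.inList) {k | k < D.nroots ∧ V D J k = x}, a * b = b * a := by
    have hgen : ∀ r, r < D.nroots → V D J r = x → ∀ s, s < D.nroots → V D J s = x → ∀ t u : K,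
        Commute (xG hp.inList r t) (xG hp.inList s u) := by
      intro r hr hrx s hs hsx t u
      by_cases hrs : s = r
      · subst hrs
        show _ * _ = _ * _
        rw [xG_add, xG_add, add_comm]
      · obtain ⟨h4, h5⟩ := C.ab r hr s hs (hrx.trans hsx.symm) hrs
        exact commute_of_nil hp hr hs hrs h4 h5 t u
    intro a ha b hb
    have h1 : rspan (xG (F := K) hp.inList) {k | k < D.nroots ∧ V D J k = x} ≤
        Subgroup.centralizer (rspan (xG (F := K) hp.inList) {k | k < D.nroots ∧ V D J k = x} : Set (GL D.Idx K)) := by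
      refine rspan_le _ ?_
      rintro r ⟨hr, hrx⟩ t
      rw [Subgroup.mem_centralizer_iff]
      intro b hb
      have h2 : rspan (xG (F := K) hp.inList) {k | k < D.nroots ∧ V D J k = x} ≤
          Subgroup.centralizer ({xG hp.inList r t} : Set (GL D.Idx K)) := by
        refine rspan_le _ ?_
        rintro s ⟨hs, hsx⟩ w
        rw [Subgroup.mem_centralizer_iff]
        rintro _ rfl
        exact hgen r hr hrx s hs hsx t w
      exact (Subgroup.mem_centralizer_iff.1 (h2 hb) _ rfl).symm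
    exact (Subgroup.mem_centralizer_iff.1 (h1 ha) b hb).symm
  have hinv : ∀ a ∈ rspan (xG (F := K) hp.inList) {k | k < D.nroots ∧ V D J k = x},
      (t : GL D.Idx K) * a * (t : GL D.Idx K)⁻¹ = a⁻¹ := by
    intro a ha
    refine Subgroup.closure_induction (p := fun a _ => (t : GL D.Idx K) * a *
      (t : GL D.Idx K)⁻¹ = a⁻¹) ?_ ?_ ?_ ?_ ha
    · rintro _ ⟨r, ⟨hr, hrx⟩, t, rfl⟩
      exact hxG r hr hrx t
    · rw [mul_one, mul_inv_cancel, inv_one]
    · intro a b ha hb h1 h2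
      have h3 := hcomm a ha b hb
      calc (t : GL D.Idx K) * (a * b) * (t : GL D.Idx K)⁻¹ =
          ((t : GL D.Idx K) * a * (t : GL D.Idx K)⁻¹) * ((t : GL D.Idx K) * b * (t : GL D.Idx K)⁻¹) := by group
        _ = a⁻¹ * b⁻¹ := by rw [h1, h2]
        _ = (a * b)⁻¹ := by rw [h3]; group
    · intro a ha h1
      calc (t : GL D.Idx K) * a⁻¹ * (t : GL D.Idx K)⁻¹ =
          ((t : GL D.Idx K) * a * (t : GL D.Idx K)⁻¹)⁻¹ := by group
        _ = a⁻¹⁻¹ := by rw [h1]
  have h1 := hinv (u : GL D.Idx K) hu.1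
  have h2 : (t : GL D.Idx K) * (u : GL D.Idx K) = (u : GL D.Idx K) * t := congrArg Subtype.val hc
  rw [h2, mul_inv_cancel_right] at h1
  have h3 : u ^ 2 = 1 := by
    apply Subtype.ext
    rw [pow_two, Subgroup.coe_mul, Subgroup.coe_one]
    nth_rewrite 1 [h1]
    exact inv_mul_cancel _
  have hpg := RG.pgrp' hx
  obtain ⟨k, hk⟩ := hpg ⟨u, hu⟩
  have h4 : u ^ (p ^ k) = 1 := congrArg Subtype.val hk
  have h5 : orderOf u ∣ 2 := orderOf_dvd_of_pow_eq_one h3
  have h6 : orderOf u ∣ p ^ k := orderOf_dvd_of_pow_eq_one h4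
  have h7 : Nat.Coprime 2 (p ^ k) := Nat.Coprime.pow_right k
    ((Nat.coprime_primes Nat.prime_two Fact.out).2 (Ne.symm hp2))
  exact orderOf_eq_one_iff.1 (Nat.eq_one_of_dvd_coprimes h7 h5 h6)

/-- an element fixing the root elements of a class centralizes the root subgroup -/
theorem commute_of_fix {x : Fin m → ℤ} {t : ↥G}
    (hxG : ∀ r, r < D.nroots → V D J r = x → ∀ u : K,
        (t : GL D.Idx K) * xG hp.inList r u * (t : GL D.Idx K)⁻¹ = xG hp.inList r u)
    {u : ↥G} (hu : u ∈ (R D hp K J σ x).subgroupOf G) : t * u = u * t := by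
  have h2 : rspan (xG (F := K) hp.inList) {k | k < D.nroots ∧ V D J k = x} ≤
      Subgroup.centralizer ({(t : GL D.Idx K)} : Set (GL D.Idx K)) := by
    refine rspan_le _ ?_
    rintro r ⟨hr, hrx⟩ u
    rw [Subgroup.mem_centralizer_iff]
    rintro _ rfl
    exact mul_inv_eq_iff_eq_mul.1 (hxG r hr hrx u)
  apply Subtype.ext
  exact Subgroup.mem_centralizer_iff.1 (h2 hu.1) _ rfl

/-- `⟨X (sr i), X (-sr i)⟩` is the image of `SL₂`. -/
theorem range_eq [Finite K] (i : Fin m) (cs : CoxeterSystem M W) (h : IsCartan M A) (FD : FoldData D M A J L)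
    (p : ℕ) [Fact p.Prime] [CharP K p] :
    (Phi FG (N i) (hf i)).range = (R D hp K J σ (sr i)).subgroupOf G ⊔ (R D hp K J σ (-sr i)).subgroupOf G := by
  have hco := ModelTw.coord FG N hf cs h FD p
  have hu := hco.up i
  have hl := hco.lo i
  apply le_antisymm
  · rintro _ ⟨g, rfl⟩
    have h1 : Subgroup.closure (Set.range (up (F := Fx φ ((rest i).length + 1))) ∪
        Set.range (lo (F := Fx φ ((rest i).length + 1)))) ≤
        ((R D hp K J σ (sr i)).subgroupOf G ⊔ (R D hp K J σ (-sr i)).subgroupOf G).comap (Phi FG (N i) (hf i)) := by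
      rw [Subgroup.closure_le]
      rintro _ (⟨a, rfl⟩ | ⟨a, rfl⟩)
      · refine Subgroup.mem_sup_left (S := (R D hp K J σ (sr i)).subgroupOf G) ?_
        rw [← SetLike.mem_coe, hu]
        exact ⟨a, rfl⟩
      · refine Subgroup.mem_sup_right (T := (R D hp K J σ (-sr i)).subgroupOf G) ?_
        rw [← SetLike.mem_coe, hl]
        exact ⟨a, rfl⟩
    exact h1 (mem_closure_SL2 g)
  · refine sup_le ?_ ?_
    · intro g hg
      rw [← SetLike.mem_coe, hu] at hg
      obtain ⟨a, rfl⟩ := hg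
      exact ⟨_, rfl⟩
    · intro g hg
      rw [← SetLike.mem_coe, hl] at hg
      obtain ⟨a, rfl⟩ := hg
      exact ⟨_, rfl⟩

end Gen

/-! ### The table of `E₆` -/

open Cfsg.Agent.Nodes.RGDTwE6 (J)

/-- the exponent of `-1` of `h_1(-1)` -/
def e1 (s : ℕ) : ℤ := chevE6.cartan 3 s

/-- the exponent of `i` of `h_0(-1) h_2(-1) h_3(i)` -/
def e2 (s : ℕ) : ℤ := 2 * chevE6.cartan 1 s + (2 * (chevE6.cartan 2 s + chevE6.cartan 4 s) +
  (chevE6.cartan 0 s - chevE6.cartan 5 s))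

/-- the type of a root -/
def ty (s : ℕ) : ℕ := if e1 s % 2 = 1 then 1 else if e2 s % 4 = 2 then 2 else if e2 s % 2 = 1 then 3 else 0

theorem ty_V : ∀ r < chevE6.nroots, ∀ s < chevE6.nroots, V chevE6 J r = V chevE6 J s → ty r = ty s := by
  decide +kernel

theorem ty_ne : ∀ r < chevE6.nroots, V chevE6 J r ≠ sr 3 → V chevE6 J r ≠ -sr 3 → ty r ≠ 0 := by
  decide +kernel

theorem ty_eq : ∀ r < chevE6.nroots, V chevE6 J r = sr 3 ∨ V chevE6 J r = -sr 3 → ty r = 0 := by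
  decide +kernel

/-! ### The group -/

/-- **`²E₆(3)`**, from `PSL₂(9)` -/
theorem nb_2e6_three {K : Type} [Field K] [Fintype K] {q : ℕ} (hq : IsPrimePow q) (h3 : q = 3)
    (hK : Fintype.card K = q ^ 2)
    (hpsl2 : ∀ (K : Type) [Field K] [Fintype K], Odd (Fintype.card K) → 3 < Fintype.card K →
      NB (Matrix.ProjectiveSpecialLinearGroup (Fin 2) K)) : NB ↥(twistedE6 K q) := by
  classical
  obtain ⟨φ, hφ, hqq⟩ := TwE6Basic.exists_frob hq hK
  have hf : ∀ i, ∀ s ∈ Cfsg.Agent.Nodes.RGDTwNode.E6.rep i :: Cfsg.Agent.Nodes.RGDTwNode.E6.rest i, ∀ t : K,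
      ((TwistedE6Sigma.eps s : ℤ) : K) * φ t = φ t := fun i s hs t => by
    rw [Cfsg.Agent.Nodes.RGDTwNode.E6.eps_one i s hs, Int.cast_one, one_mul]
  obtain ⟨p, hpr, hcp⟩ : ∃ p : ℕ, p.Prime ∧ CharP K p := by
    obtain ⟨p, hcp⟩ := CharP.exists K
    exact ⟨p, CharP.char_is_prime K p, hcp⟩
  haveI : Fact p.Prime := ⟨hpr⟩
  have hc9 : Fintype.card K = 9 := by rw [hK, h3]; norm_num
  have hodd : Odd (Fintype.card K) := by rw [hc9]; decide
  have hp2 : p ≠ 2 := charP_ne_two (F := K) hodd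
  let cs : CoxeterSystem CoxeterMatrix.F₄ CoxeterMatrix.F₄.Group := CoxeterMatrix.F₄.toCoxeterSystem
  have FG := Cfsg.Agent.Nodes.RGDTwE6.foldGrp (K := K) hφ hqq
  have FD := Cfsg.Agent.Nodes.RGDTwE6.foldData
  have N := Cfsg.Agent.Nodes.RGDTwNode.E6.nodeOK
  have h := Cfsg.Agent.Nodes.RGDTwE6.isCartan
  have hp := Cfsg.Agent.Nodes.RGDTwE6.hp
  have hW : Finite CoxeterMatrix.F₄.Group := Cfsg.Agent.Nodes.RGDFold.finite_W (hp := hp) cs h FD
  have RG := Cfsg.Agent.Nodes.RGDFold.rgd cs h FD FG p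
  have hGG := Cfsg.Agent.KFacts.RgdRigid.GG_eq_top (cs := cs) (h := h)
    (T := (chevE6.diagonalSubgroup K ⊓ twistedE6 K q).subgroupOf (twistedE6 K q))
    (X := fun z => (Cfsg.Agent.Nodes.RGDFold.R chevE6 hp K J (TwE6Basic.sg φ) z).subgroupOf (twistedE6 K q))
    (Cfsg.Agent.Nodes.RGDFold.G1_eq_top cs h FD FG p)
  have hφ2 : ∀ x : K, φ^[2] x = x := fun x => by
    show φ (φ x) = x
    rw [hφ, hφ]; exact hqq x
  -- the element `i`
  obtain ⟨ι, hι⟩ : ∃ ι : K, ι ^ 2 = -1 := by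
    have h1 : IsSquare (-1 : K) := by
      rw [FiniteField.isSquare_neg_one_iff, hc9]; norm_num
    obtain ⟨ι, hι⟩ := h1
    exact ⟨ι, by rw [pow_two, hι]⟩
  have hι0 : ι ≠ 0 := by
    rintro rfl
    rw [zero_pow two_ne_zero] at hι
    exact one_ne_zero (neg_eq_zero.1 hι.symm)
  have hι2 : ι ^ (2 : ℤ) = -1 := by
    rw [← hι]
    exact zpow_natCast ι 2
  have hι4 : ι ^ (4 : ℤ) = 1 := by
    have e : ι ^ (4 : ℤ) = ι ^ 4 := zpow_natCast ι 4
    have e' : ι ^ 4 = (ι ^ 2) ^ 2 := by ring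
    rw [e, e', hι]
    ring
  let E := Fx φ ((Cfsg.Agent.Nodes.RGDTwNode.E6.rest 3).length + 1)
  have htop : ∀ x : K, x ∈ E := fun x => mem_Fx.2 (hφ2 x)
  haveI : Fintype E := Fintype.ofFinite _
  have hcardE : Fintype.card E = 9 := by
    rw [← hc9]; exact Fintype.card_congr (Equiv.subtypeUnivEquiv htop)
  let ιE : Eˣ := Units.mk0 (⟨ι, htop ι⟩ : E) (fun h0 => hι0 (congrArg Subtype.val h0))
  let z := zF FG N hf
  let P := Phi FG (N 3) (hf 3) (Mult.dg ιE)
  let t2 := z 0 * (z 2 * P)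
  have hφ1 : φ (-1) = -1 := by rw [map_neg, map_one]
  have hφι : φ ι = ι⁻¹ := by
    rw [hφ, h3]
    apply eq_inv_of_mul_eq_one_left
    have : ι ^ 3 * ι = (ι ^ 2) ^ 2 := by ring
    rw [this, hι]
    ring
  have hz1 : ∀ s < chevE6.nroots, ∀ u : K, ((z 1 : ↥(twistedE6 K q)) : GL chevE6.Idx K) * xG hp.inList s u *
      ((z 1 : ↥(twistedE6 K q)) : GL chevE6.Idx K)⁻¹ = xG hp.inList s ((-1) ^ (e1 s) * u) := by
    intro s hs u
    have h1 := conj_zF FG N hf hφ1 1 hs u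
    have h2 : ((J 1).map fun j : Fin 6 => chevE6.cartan j s).sum = e1 s := by
      simp [J, e1]
    rw [h2] at h1
    exact h1
  have ht2 : ∀ s < chevE6.nroots, ∀ u : K, ((t2 : ↥(twistedE6 K q)) : GL chevE6.Idx K) * xG hp.inList s u *
      ((t2 : ↥(twistedE6 K q)) : GL chevE6.Idx K)⁻¹ = xG hp.inList s (ι ^ (e2 s) * u) := by
    intro s hs u
    have h0 := fun v => conj_zF FG N hf hφ1 0 hs v
    have h2 := fun v => conj_zF FG N hf hφ1 2 hs v
    have hP : ∀ v : K, ((P : ↥(twistedE6 K q)) : GL chevE6.Idx K) * xG hp.inList s v *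
        ((P : ↥(twistedE6 K q)) : GL chevE6.Idx K)⁻¹ =
        xG hp.inList s (ι ^ (chevE6.cartan 0 s - chevE6.cartan 5 s) * v) := by
      intro v
      have h5 : ((P : ↥(twistedE6 K q)) : GL chevE6.Idx K) = hI hp φ (J 3) ι :=
        ModelTw.coe_Phi_dg FG N hf 3 ιE
      rw [h5, hI_conj (J 3) hs hι0]
      have h6 : wt chevE6 φ (J 3) s ι = ι ^ chevE6.cartan 0 s * ((φ ι) ^ chevE6.cartan 5 s * 1) := rfl
      rw [h6, hφι, mul_one, inv_zpow, sub_eq_add_neg, zpow_add₀ hι0, zpow_neg]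
    have s0 : ((J 0).map fun j : Fin 6 => chevE6.cartan j s).sum = chevE6.cartan 1 s := by simp [J]
    have s2 : ((J 2).map fun j : Fin 6 => chevE6.cartan j s).sum = chevE6.cartan 2 s + chevE6.cartan 4 s := by
      simp [J]
    have e : ((t2 : ↥(twistedE6 K q)) : GL chevE6.Idx K) * xG hp.inList s u *
      ((t2 : ↥(twistedE6 K q)) : GL chevE6.Idx K)⁻¹ =
      ((z 0 : ↥(twistedE6 K q)) : GL chevE6.Idx K) * (((z 2 : ↥(twistedE6 K q)) : GL chevE6.Idx K) *
        (((P : ↥(twistedE6 K q)) : GL chevE6.Idx K) * xG hp.inList s u *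
          ((P : ↥(twistedE6 K q)) : GL chevE6.Idx K)⁻¹) * ((z 2 : ↥(twistedE6 K q)) : GL chevE6.Idx K)⁻¹) *
        ((z 0 : ↥(twistedE6 K q)) : GL chevE6.Idx K)⁻¹ := by
      show (((z 0 : ↥(twistedE6 K q)) : GL chevE6.Idx K) * (((z 2 : ↥(twistedE6 K q)) : GL chevE6.Idx K) *
        ((P : ↥(twistedE6 K q)) : GL chevE6.Idx K))) * xG hp.inList s u *
        (((z 0 : ↥(twistedE6 K q)) : GL chevE6.Idx K) * (((z 2 : ↥(twistedE6 K q)) : GL chevE6.Idx K) *
        ((P : ↥(twistedE6 K q)) : GL chevE6.Idx K)))⁻¹ = _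
      group
    rw [e, hP, h2, h0, s0, s2]
    congr 1
    rw [← hι, ← mul_assoc, ← mul_assoc]
    congr 1
    unfold e2
    rw [← zpow_natCast ι 2, ← zpow_mul, ← zpow_mul, zpow_add₀ hι0, zpow_add₀ hι0, mul_assoc]
    rfl
  have hT : ∀ a ∈ (chevE6.diagonalSubgroup K ⊓ twistedE6 K q).subgroupOf (twistedE6 K q), a ^ 8 = 1 := by
    intro a ha
    apply Subtype.ext
    rw [Subgroup.coe_pow]
    have := diag_pow hp.inList (Subgroup.mem_subgroupOf.1 ha).1
    rwa [hc9] at this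
  have hz1T := zF_mem FG N hf 1
  have ht2T : t2 ∈ (chevE6.diagonalSubgroup K ⊓ twistedE6 K q).subgroupOf (twistedE6 K q) :=
    mul_mem (zF_mem FG N hf 0) (mul_mem (zF_mem FG N hf 2) (ModelTw.Phi_dg_mem FG N hf 3 ιE))
  let S : Set ↥(twistedE6 K q) := {z 1, t2}
  have hST : S ⊆ (chevE6.diagonalSubgroup K ⊓ twistedE6 K q).subgroupOf (twistedE6 K q) := by
    rintro _ (rfl | rfl)
    · exact hz1T
    · exact ht2T
  have hcS : ∀ u : ↥(twistedE6 K q), u ∈ Subgroup.centralizer S ↔ z 1 * u = u * z 1 ∧ t2 * u = u * t2 := by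
    intro u
    rw [Subgroup.mem_centralizer_iff]
    constructor
    · intro hu
      exact ⟨hu _ (Or.inl rfl), hu _ (Or.inr rfl)⟩
    · rintro ⟨h1, h2⟩ _ (rfl | rfl)
      · exact h1
      · exact h2
  have hty0 : ∀ s, ty s = 0 → e1 s % 2 = 0 ∧ e2 s % 4 = 0 := by
    intro s hs
    unfold ty at hs
    split_ifs at hs with h1 h2 h3 <;> omega
  -- the root subgroups `X (± sr 3)`
  have hfix : ∀ x : Fin 4 → ℤ, x = sr 3 ∨ x = -sr 3 →
      (R chevE6 hp K J (TwE6Basic.sg φ) x).subgroupOf (twistedE6 K q) ≤ Subgroup.centralizer S := by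
    intro x hx u hu
    rw [hcS]
    have hk : ∀ r, r < chevE6.nroots → V chevE6 J r = x → e1 r % 2 = 0 ∧ e2 r % 4 = 0 := by
      intro r hr hrx
      exact hty0 r (ty_eq r hr (by rw [hrx]; exact hx))
    refine ⟨commute_of_fix (hp := hp) (x := x) ?_ hu, commute_of_fix (hp := hp) (x := x) ?_ hu⟩
    · intro r hr hrx v
      rw [hz1 r hr, (Int.even_iff.2 (hk r hr hrx).1).neg_one_zpow, one_mul]
    · intro r hr hrx v
      rw [ht2 r hr]
      obtain ⟨c, hc⟩ := Int.dvd_of_emod_eq_zero (hk r hr hrx).2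
      have h4 : ι ^ e2 r = 1 := by
        rw [hc, zpow_mul]
        rw [hι4, one_zpow]
      rw [h4, one_mul]
  have hwp : ∀ i : Fin 4, ∀ r < chevE6.nroots, wp chevE6 (J i) r < chevE6.nroots := fun i r hr => wp_lt hp (J i) hr
  -- the other root subgroups
  have hoth : ∀ x, IsRoot cs h x → x ≠ sr 3 → x ≠ -sr 3 →
      ∀ u ∈ (R chevE6 hp K J (TwE6Basic.sg φ) x).subgroupOf (twistedE6 K q), u ∈ Subgroup.centralizer S → u = 1 := by
    intro x hx hx1 hx2 u hu huS
    rw [hcS] at huS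
    obtain ⟨r, hr, hrx⟩ := (FD.isRoot_iff hp.checked hwp x).1 hx
    have hty : ty r ≠ 0 := ty_ne r hr (by rw [hrx]; exact hx1) (by rw [hrx]; exact hx2)
    have hcl : ∀ s, s < chevE6.nroots → V chevE6 J s = x → ty s = ty r := fun s hs hsx =>
      ty_V s hs r hr (hsx.trans hrx.symm)
    have h123 : ty r = 1 ∨ ty r = 2 ∨ ty r = 3 := by
      unfold ty at hty ⊢
      split_ifs at hty ⊢ <;> omega
    rcases h123 with ht | ht | ht
    · refine eq_one_of_inv FG FD chk_E6 p hp2 (cs := cs) (h := h) hx (t := z 1) ?_ hu huS.1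
      intro s hs hsx v
      have h4 := hcl s hs hsx
      rw [ht] at h4
      have h5 : Odd (e1 s) := by
        unfold ty at h4
        rw [Int.odd_iff]
        split_ifs at h4 <;> omega
      rw [hz1 s hs, h5.neg_one_zpow, neg_one_mul, xG_inv]
    · refine eq_one_of_inv FG FD chk_E6 p hp2 (cs := cs) (h := h) hx (t := t2) ?_ hu huS.2
      intro s hs hsx v
      have h4 := hcl s hs hsx
      rw [ht] at h4
      have h5 : e2 s % 4 = 2 := by
        unfold ty at h4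
        split_ifs at h4 <;> omega
      obtain ⟨c, hc⟩ : ∃ c, e2 s = 4 * c + 2 := ⟨e2 s / 4, by omega⟩
      have h6 : ι ^ e2 s = -1 := by
        rw [hc, zpow_add₀ hι0, zpow_mul]
        rw [hι4, one_zpow, one_mul, hι2]
      rw [ht2 s hs, h6, neg_one_mul, xG_inv]
    · refine eq_one_of_inv FG FD chk_E6 p hp2 (cs := cs) (h := h) hx (t := t2 * t2) ?_ hu
        (by rw [mul_assoc, huS.2, ← mul_assoc, huS.2, mul_assoc])
      intro s hs hsx v
      have h4 := hcl s hs hsx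
      rw [ht] at h4
      have h5 : Odd (e2 s) := by
        unfold ty at h4
        rw [Int.odd_iff]
        split_ifs at h4 <;> omega
      have e : ((t2 * t2 : ↥(twistedE6 K q)) : GL chevE6.Idx K) * xG hp.inList s v *
          ((t2 * t2 : ↥(twistedE6 K q)) : GL chevE6.Idx K)⁻¹ =
          ((t2 : ↥(twistedE6 K q)) : GL chevE6.Idx K) * (((t2 : ↥(twistedE6 K q)) : GL chevE6.Idx K) *
            xG hp.inList s v * ((t2 : ↥(twistedE6 K q)) : GL chevE6.Idx K)⁻¹) *
            ((t2 : ↥(twistedE6 K q)) : GL chevE6.Idx K)⁻¹ := by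
        rw [Subgroup.coe_mul]
        group
      rw [e, ht2 s hs, ht2 s hs, ← mul_assoc, ← mul_zpow, ← pow_two, hι, h5.neg_one_zpow, neg_one_mul, xG_inv]
  -- the component
  have hsr3 := isRoot_sr cs h (3 : Fin 4)
  have hnsr3 : IsRoot cs h (-sr 3) := hsr3.neg
  have hrange := range_eq FG N hf 3 cs h FD p
  have hPh : ∃ g, Phi FG (N 3) (hf 3) g ≠ 1 := by
    refine ⟨up 1, fun h1 => ?_⟩
    have h2 : Phi FG (N 3) (hf 3) (up (1 : E)) = Phi FG (N 3) (hf 3) (up (0 : E)) := by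
      have : (up (0 : E) : Matrix.SpecialLinearGroup (Fin 2) E) = 1 := by
        apply sl_ext
        ext i j
        fin_cases i <;> fin_cases j <;> rfl
      rw [this, map_one]; exact h1
    exact one_ne_zero (Phi_up_injective FG (N 3) (hf 3) h2)
  obtain ⟨g, hg⟩ := hPh
  obtain ⟨f, hf1, hf2⟩ := exists_psl (by rw [hcardE]; norm_num) (Phi FG (N 3) (hf 3)) g hg
  have hQ : IsPGroup 2 (Subgroup.closure S) := by
    rintro ⟨a, ha⟩
    refine ⟨3, Subtype.ext ?_⟩
    show a ^ 2 ^ 3 = 1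
    exact hT a ((Subgroup.closure_le _).2 hST ha)
  have hcent : Subgroup.centralizer ((Subgroup.closure S : Subgroup ↥(twistedE6 K q)) : Set ↥(twistedE6 K q)) =
      Subgroup.centralizer S := Subgroup.centralizer_closure _
  refine NB.of_cover (Subgroup.closure S) hQ (Phi FG (N 3) (hf 3)).range ?_ ?_ f hf1 hf2
    (hpsl2 E (by rw [hcardE]; decide) (by rw [hcardE]; norm_num))
  · rw [hcent, hrange]
    exact sup_le (hfix _ (Or.inl rfl)) (hfix _ (Or.inr rfl))
  · rw [hcent, hrange]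
    intro c hc
    exact normalizes RG hGG hST hsr3 hnsr3 (hfix _ (Or.inl rfl)) (hfix _ (Or.inr rfl)) hoth hc

/-- **`²E₆(q)`, `q` odd** -/
theorem nb_2e6 {K : Type} [Field K] [Fintype K] {q : ℕ} (hq : IsPrimePow q) (h2 : Odd q)
    (hK : Fintype.card K = q ^ 2)
    (hpsl2 : ∀ (K : Type) [Field K] [Fintype K], Odd (Fintype.card K) → 3 < Fintype.card K →
      NB (Matrix.ProjectiveSpecialLinearGroup (Fin 2) K)) : NB ↥(twistedE6 K q) := by
  by_cases h3 : q = 3
  · exact nb_2e6_three hq h3 hK hpsl2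
  · exact nb_2e6_ne hq h2 h3 hK

end Cfsg.Agent.H280.ObTwE
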